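import Groth.Prelude.Def_AlgSt
import Groth.Agent.FibC.Basic
import Groth.Agent.FibC.Fp
import Groth.Agent.FibC.SetFib
import Groth.Agent.StFib.Basic

/-!
Prestacks and stacks (`Stk.IsPrestack`, `Stk.IsStack`): invariance under equivalences over the base and
stability under 2-fibre products.
-/

set_option autoImplicit false
set_option backward.isDefEq.respectTransparency false
set_option backward.isDefEq.respectTransparency.types false

universe v₇ u₇ v₆ u₆ v₅ u₅ v₄ u₄ v₃ u₃ v₂ u₂ v u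

open CategoryTheory CategoryTheory.Limits CategoryTheory.Functor

namespace Groth.Agent.StkLib

open Groth.Agent.FibC

variable {C : Type u} [Category.{v} C]

/-- An isomorphism of based functors from its components. -/
def natIsoMk {𝒳 : BasedCategory.{v₂, u₂} C} {𝒴 : BasedCategory.{v₃, u₃} C} {F G : 𝒳 ⥤ᵇ 𝒴}
    (e : ∀ a, F.toFunctor.obj a ≅ G.toFunctor.obj a)
    (nat : ∀ {a b : 𝒳.obj} (f : a ⟶ b), F.toFunctor.map f ≫ (e b).hom = (e a).hom ≫ G.toFunctor.map f)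
    (he : ∀ a, 𝒴.p.IsHomLift (𝟙 (𝒳.p.obj a)) (e a).hom) : F ≅ G :=
  BasedNatIso.mkNatIso (NatIso.ofComponents e nat) he

section postcomp

variable (𝒜 : BasedCategory.{v₂, u₂} C) {𝒳 : BasedCategory.{v₃, u₃} C} {𝒴 : BasedCategory.{v₄, u₄} C}

/-- Postcomposition with a functor over `C`. -/
def postc (F : 𝒳 ⥤ᵇ 𝒴) : (𝒜 ⥤ᵇ 𝒳) ⥤ (𝒜 ⥤ᵇ 𝒴) where
  obj a := BasedFunctor.comp a F
  map α := BasedCategory.whiskerRight α F
  map_id a := BasedNatTrans.homCategory.ext _ _ (by ext x; exact F.toFunctor.map_id _)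
  map_comp α β := BasedNatTrans.homCategory.ext _ _ (by ext x; exact F.toFunctor.map_comp _ _)

theorem postc_isEquivalence {F : 𝒳 ⥤ᵇ 𝒴} (hF : FibCat.IsEquivOver F) :
    (postc 𝒜 F).IsEquivalence := by
  obtain ⟨G, ⟨η⟩, ⟨ε⟩⟩ := hF
  refine Functor.IsEquivalence.mk' (postc 𝒜 G)
    (NatIso.ofComponents (fun a => (StFib.isoWhiskerLeft a η).symm) (fun {a b} α => ?_))
    (NatIso.ofComponents (fun a => StFib.isoWhiskerLeft a ε) (fun {a b} α => ?_))
  · apply BasedNatTrans.homCategory.ext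
    ext x
    exact (η.inv.toNatTrans.naturality (α.toNatTrans.app x))
  · apply BasedNatTrans.homCategory.ext
    ext x
    exact (ε.hom.toNatTrans.naturality (α.toNatTrans.app x))

end postcomp

section transfer

variable {𝒜 : BasedCategory.{v₅, u₅} C} {ℬ : BasedCategory.{v₆, u₆} C} (ι : 𝒜 ⥤ᵇ ℬ)
  {𝒳 : BasedCategory.{v₃, u₃} C} {𝒴 : BasedCategory.{v₄, u₄} C} (F : 𝒳 ⥤ᵇ 𝒴)

/-- Restriction commutes with postcomposition. -/
def restrPostIso : postc ℬ F ⋙ Stk.restr ι 𝒴 ≅ Stk.restr ι 𝒳 ⋙ postc 𝒜 F :=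
  NatIso.ofComponents (fun _ => Iso.refl _) (fun {_ _} α => by
    apply BasedNatTrans.homCategory.ext; ext x
    exact (Category.comp_id _).trans (Category.id_comp _).symm)

theorem restr_isEquivalence_iff {F : 𝒳 ⥤ᵇ 𝒴} (hF : FibCat.IsEquivOver F) :
    (Stk.restr ι 𝒳).IsEquivalence ↔ (Stk.restr ι 𝒴).IsEquivalence := by
  have h1 := postc_isEquivalence 𝒜 hF
  have h2 := postc_isEquivalence ℬ hF
  constructor
  · intro h
    have : (postc ℬ F ⋙ Stk.restr ι 𝒴).IsEquivalence :=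
      Functor.isEquivalence_of_iso (restrPostIso ι F).symm
    exact Functor.isEquivalence_of_comp_left (postc ℬ F) (Stk.restr ι 𝒴)
  · intro h
    have : (Stk.restr ι 𝒳 ⋙ postc 𝒜 F).IsEquivalence :=
      Functor.isEquivalence_of_iso (restrPostIso ι F)
    exact Functor.isEquivalence_of_comp_right (Stk.restr ι 𝒳) (postc 𝒜 F)

theorem restr_ff_iff {F : 𝒳 ⥤ᵇ 𝒴} (hF : FibCat.IsEquivOver F) :
    ((Stk.restr ι 𝒳).Full ∧ (Stk.restr ι 𝒳).Faithful) ↔
      ((Stk.restr ι 𝒴).Full ∧ (Stk.restr ι 𝒴).Faithful) := by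
  have h1 := postc_isEquivalence 𝒜 hF
  have h2 := postc_isEquivalence ℬ hF
  let e := restrPostIso ι F
  constructor
  · rintro ⟨hf, hf'⟩
    have i1 : (postc ℬ F ⋙ Stk.restr ι 𝒴).Full := Functor.Full.of_iso e.symm
    have i2 : (postc ℬ F ⋙ Stk.restr ι 𝒴).Faithful := Functor.Faithful.of_iso e.symm
    let E := (postc ℬ F).asEquivalence
    have e' : E.inverse ⋙ (postc ℬ F ⋙ Stk.restr ι 𝒴) ≅ Stk.restr ι 𝒴 :=
      (Functor.associator _ _ _).symm ≪≫ Functor.isoWhiskerRight E.counitIso _ ≪≫ Functor.leftUnitor _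
    exact ⟨Functor.Full.of_iso e', Functor.Faithful.of_iso e'⟩
  · rintro ⟨hf, hf'⟩
    have i1 : (Stk.restr ι 𝒳 ⋙ postc 𝒜 F).Full := Functor.Full.of_iso e
    have i2 : (Stk.restr ι 𝒳 ⋙ postc 𝒜 F).Faithful := Functor.Faithful.of_iso e
    exact ⟨Functor.Full.of_comp_faithful (Stk.restr ι 𝒳) (postc 𝒜 F),
      Functor.Faithful.of_comp (Stk.restr ι 𝒳) (postc 𝒜 F)⟩

end transfer

section stack

variable {𝒳 : BasedCategory.{v₃, u₃} C} {𝒴 : BasedCategory.{v₄, u₄} C} {F : 𝒳 ⥤ᵇ 𝒴}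

theorem fibGrpd_iff_of_equivOver (hF : FibCat.IsEquivOver F) :
    FibCat.IsFibGrpd 𝒳.p ↔ FibCat.IsFibGrpd 𝒴.p := by
  refine ⟨fibGrpd_of_equivOver hF, fun h => ?_⟩
  obtain ⟨G, hG, -, -⟩ := StFib.isEquivOver_symm hF
  exact fibGrpd_of_equivOver hG h

theorem isStack_iff (hF : FibCat.IsEquivOver F) (J : GrothendieckTopology C) :
    Stk.IsStack J 𝒳 ↔ Stk.IsStack J 𝒴 :=
  and_congr (fibGrpd_iff_of_equivOver hF)
    (forall_congr' fun _ => forall_congr' fun _ => imp_congr_right fun _ => restr_isEquivalence_iff _ hF)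

theorem isPrestack_iff (hF : FibCat.IsEquivOver F) (J : GrothendieckTopology C) :
    Stk.IsPrestack J 𝒳 ↔ Stk.IsPrestack J 𝒴 :=
  and_congr (fibGrpd_iff_of_equivOver hF)
    (forall_congr' fun _ => forall_congr' fun _ => imp_congr_right fun _ => restr_ff_iff _ hF)

theorem fibSetoid_of_equivOver (hF : FibCat.IsEquivOver F) (h : FibCat.IsFibSetoid 𝒳.p) :
    FibCat.IsFibSetoid 𝒴.p := by
  obtain ⟨G, hG, -, -⟩ := StFib.isEquivOver_symm hF
  have := faithful_of_isEquivOver hG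
  refine ⟨fibGrpd_of_equivOver hF h.1, fun U A B => ⟨fun a b => ?_⟩⟩
  have := a.2
  have := b.2
  exact Subtype.ext (G.toFunctor.map_injective
    (setoid_hom_eq h (𝟙 U) (G.toFunctor.map a.1) (G.toFunctor.map b.1)))

theorem fibSetoid_iff_of_equivOver (hF : FibCat.IsEquivOver F) :
    FibCat.IsFibSetoid 𝒳.p ↔ FibCat.IsFibSetoid 𝒴.p := by
  refine ⟨fibSetoid_of_equivOver hF, fun h => ?_⟩
  obtain ⟨G, hG, -, -⟩ := StFib.isEquivOver_symm hF
  exact fibSetoid_of_equivOver hG h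

theorem isPrestack_of_isStack {J : GrothendieckTopology C} (h : Stk.IsStack J 𝒳) :
    Stk.IsPrestack J 𝒳 :=
  ⟨h.1, fun _ R hR => have : (Stk.resSieve R 𝒳).IsEquivalence := h.2 R hR; ⟨inferInstance, inferInstance⟩⟩

end stack

section fp

variable {𝒳 : BasedCategory.{v₂, u₂} C} {𝒴 : BasedCategory.{v₃, u₃} C} {𝒮 : BasedCategory.{v₄, u₄} C}
  {F : 𝒳 ⥤ᵇ 𝒮} {G : 𝒴 ⥤ᵇ 𝒮}
  {𝒜 : BasedCategory.{v₅, u₅} C} {ℬ : BasedCategory.{v₆, u₆} C} (ι : 𝒜 ⥤ᵇ ℬ)

theorem restr_fp_faithful [(Stk.restr ι 𝒳).Faithful] [(Stk.restr ι 𝒴).Faithful] :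
    (Stk.restr ι (FibCat.fp F G)).Faithful := by
  constructor
  intro Φ Ψ α β hαβ
  have h1 : BasedCategory.whiskerRight α (FibCat.fpFst F G) =
      BasedCategory.whiskerRight β (FibCat.fpFst F G) := by
    apply (Stk.restr ι 𝒳).map_injective
    apply BasedNatTrans.homCategory.ext
    ext x
    exact congrArg (fun t : (Stk.restr ι (FibCat.fp F G)).obj Φ ⟶ (Stk.restr ι (FibCat.fp F G)).obj Ψ =>
      (t.toNatTrans.app x).hom.fst) hαβ
  have h2 : BasedCategory.whiskerRight α (FibCat.fpSnd F G) =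
      BasedCategory.whiskerRight β (FibCat.fpSnd F G) := by
    apply (Stk.restr ι 𝒴).map_injective
    apply BasedNatTrans.homCategory.ext
    ext x
    exact congrArg (fun t : (Stk.restr ι (FibCat.fp F G)).obj Φ ⟶ (Stk.restr ι (FibCat.fp F G)).obj Ψ =>
      (t.toNatTrans.app x).hom.snd) hαβ
  apply BasedNatTrans.homCategory.ext
  refine NatTrans.ext (funext fun x => fp_hom_ext ?_ ?_)
  · exact congrArg (fun t => BasedNatTrans.toNatTrans t |>.app x) h1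
  · exact congrArg (fun t => BasedNatTrans.toNatTrans t |>.app x) h2

theorem restr_fp_full [(Stk.restr ι 𝒳).Full] [(Stk.restr ι 𝒴).Full] [(Stk.restr ι 𝒮).Faithful] :
    (Stk.restr ι (FibCat.fp F G)).Full := by
  constructor
  intro Φ Ψ γ
  obtain ⟨α, hα⟩ := (Stk.restr ι 𝒳).map_surjective
    (X := BasedFunctor.comp Φ (FibCat.fpFst F G)) (Y := BasedFunctor.comp Ψ (FibCat.fpFst F G))
    (BasedCategory.whiskerRight γ (FibCat.fpFst F G))
  obtain ⟨β, hβ⟩ := (Stk.restr ι 𝒴).map_surjective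
    (X := BasedFunctor.comp Φ (FibCat.fpSnd F G)) (Y := BasedFunctor.comp Ψ (FibCat.fpSnd F G))
    (BasedCategory.whiskerRight γ (FibCat.fpSnd F G))
  have hS : BasedCategory.whiskerRight α F ≫ BasedCategory.whiskerLeft Ψ (FibCat.fpIso F G).hom =
      BasedCategory.whiskerLeft Φ (FibCat.fpIso F G).hom ≫ BasedCategory.whiskerRight β G := by
    apply (Stk.restr ι 𝒮).map_injective
    apply BasedNatTrans.homCategory.ext
    ext x
    have ea : α.toNatTrans.app (ι.toFunctor.obj x) = (γ.toNatTrans.app x).hom.fst :=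
      congrArg (fun t => BasedNatTrans.toNatTrans t |>.app x) hα
    have eb : β.toNatTrans.app (ι.toFunctor.obj x) = (γ.toNatTrans.app x).hom.snd :=
      congrArg (fun t => BasedNatTrans.toNatTrans t |>.app x) hβ
    change F.toFunctor.map (α.toNatTrans.app (ι.toFunctor.obj x)) ≫ _ =
      _ ≫ G.toFunctor.map (β.toNatTrans.app (ι.toFunctor.obj x))
    rw [ea, eb]
    exact (γ.toNatTrans.app x).hom.w
  let η : Φ ⟶ Ψ :=
    { toNatTrans :=
        { app := fun x => ObjectProperty.homMk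
            { fst := α.toNatTrans.app x
              snd := β.toNatTrans.app x
              w := congrArg (fun t => BasedNatTrans.toNatTrans t |>.app x) hS }
          naturality := fun x y f => fp_hom_ext (α.toNatTrans.naturality f) (β.toNatTrans.naturality f) }
      isHomLift' := fun x => (fp_isHomLift_iff _ _).2 (α.isHomLift' x) }
  refine ⟨η, BasedNatTrans.homCategory.ext _ _ ?_⟩
  refine NatTrans.ext (funext fun x => fp_hom_ext ?_ ?_)
  · exact congrArg (fun t => BasedNatTrans.toNatTrans t |>.app x) hα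
  · exact congrArg (fun t => BasedNatTrans.toNatTrans t |>.app x) hβ

theorem restr_fp_essSurj [(Stk.restr ι 𝒳).EssSurj] [(Stk.restr ι 𝒴).EssSurj] [(Stk.restr ι 𝒮).Full]
    [(Stk.restr ι 𝒮).Faithful] : (Stk.restr ι (FibCat.fp F G)).EssSurj := by
  constructor
  intro Φ
  let a := (Stk.restr ι 𝒳).objPreimage (BasedFunctor.comp Φ (FibCat.fpFst F G))
  let i : (Stk.restr ι 𝒳).obj a ≅ _ := (Stk.restr ι 𝒳).objObjPreimageIso _
  let b := (Stk.restr ι 𝒴).objPreimage (BasedFunctor.comp Φ (FibCat.fpSnd F G))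
  let j : (Stk.restr ι 𝒴).obj b ≅ _ := (Stk.restr ι 𝒴).objObjPreimageIso _
  let e₀ : (Stk.restr ι 𝒮).obj (BasedFunctor.comp a F) ≅ (Stk.restr ι 𝒮).obj (BasedFunctor.comp b G) :=
    StFib.isoWhiskerRight i F ≪≫ StFib.isoWhiskerLeft Φ (FibCat.fpIso F G) ≪≫
      (StFib.isoWhiskerRight j G).symm
  let e := (Stk.restr ι 𝒮).preimageIso e₀
  have he : ∀ x, e.hom.toNatTrans.app (ι.toFunctor.obj x) =
      F.toFunctor.map (i.hom.toNatTrans.app x) ≫ (Φ.toFunctor.obj x).obj.iso.hom ≫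
        G.toFunctor.map (j.inv.toNatTrans.app x) := fun x =>
    congrArg (fun t => BasedNatTrans.toNatTrans t |>.app x) ((Stk.restr ι 𝒮).map_preimage e₀.hom)
  refine ⟨FibCat.fpLift a b e, ⟨natIsoMk
    (fun x => fpIsoMk (appIso i x) (appIso j x) ?_)
    (fun {x y} f => fp_hom_ext (i.hom.toNatTrans.naturality f) (j.hom.toNatTrans.naturality f))
    (fun x => (fp_isHomLift_iff _ _).2 (appIso_lift i rfl))⟩⟩
  change F.toFunctor.map (i.hom.toNatTrans.app x) ≫ _ =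
    e.hom.toNatTrans.app (ι.toFunctor.obj x) ≫ G.toFunctor.map (j.hom.toNatTrans.app x)
  have hj : j.inv.toNatTrans.app x ≫ j.hom.toNatTrans.app x = 𝟙 _ := (appIso j x).inv_hom_id
  rw [he, Category.assoc, Category.assoc, ← Functor.map_comp, hj]; erw [G.toFunctor.map_id]
  exact congrArg _ (Category.comp_id _).symm

end fp

section fpStack

variable {𝒳 : BasedCategory.{v₂, u₂} C} {𝒴 : BasedCategory.{v₃, u₃} C} {𝒮 : BasedCategory.{v₄, u₄} C}
  (F : 𝒳 ⥤ᵇ 𝒮) (G : 𝒴 ⥤ᵇ 𝒮) {J : GrothendieckTopology C}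

theorem isStack_fp (h𝒳 : Stk.IsStack J 𝒳) (h𝒴 : Stk.IsStack J 𝒴) (h𝒮 : Stk.IsPrestack J 𝒮) :
    Stk.IsStack J (FibCat.fp F G) := by
  refine ⟨fp_isFibGrpd h𝒳.1 h𝒴.1 h𝒮.1, fun U R hR => ?_⟩
  have : (Stk.restr (Stk.sieveIncl R) 𝒳).IsEquivalence := h𝒳.2 R hR
  have : (Stk.restr (Stk.sieveIncl R) 𝒴).IsEquivalence := h𝒴.2 R hR
  obtain ⟨_, _⟩ := h𝒮.2 R hR
  have := restr_fp_faithful (F := F) (G := G) (Stk.sieveIncl R)
  have := restr_fp_full (F := F) (G := G) (Stk.sieveIncl R)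
  have := restr_fp_essSurj (F := F) (G := G) (Stk.sieveIncl R)
  exact { }

theorem isPrestack_fp (h𝒳 : Stk.IsPrestack J 𝒳) (h𝒴 : Stk.IsPrestack J 𝒴)
    (h𝒮 : Stk.IsPrestack J 𝒮) : Stk.IsPrestack J (FibCat.fp F G) := by
  refine ⟨fp_isFibGrpd h𝒳.1 h𝒴.1 h𝒮.1, fun U R hR => ?_⟩
  obtain ⟨_, _⟩ := h𝒳.2 R hR
  obtain ⟨_, _⟩ := h𝒴.2 R hR
  obtain ⟨_, _⟩ := h𝒮.2 R hR
  exact ⟨restr_fp_full _, restr_fp_faithful _⟩

theorem fibSetoid_fp (h𝒳 : FibCat.IsFibSetoid 𝒳.p) (h𝒴 : FibCat.IsFibSetoid 𝒴.p)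
    (h𝒮 : FibCat.IsFibGrpd 𝒮.p) : FibCat.IsFibSetoid (FibCat.fp F G).p := by
  refine ⟨fp_isFibGrpd h𝒳.1 h𝒴.1 h𝒮, fun U A B => ⟨fun a b => ?_⟩⟩
  have := a.2
  have := b.2
  exact Subtype.ext (fp_hom_ext (setoid_hom_eq h𝒳 (𝟙 U) a.1.hom.fst b.1.hom.fst)
    (setoid_hom_eq h𝒴 (𝟙 U) a.1.hom.snd b.1.hom.snd))

end fpStack

end Groth.Agent.StkLib
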