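import Groth.Prelude.Def_AlgSt
import Groth.Agent.StkLib.Stack
import Groth.Agent.FibC.Yoneda

/-!
Glueing in stacks: objects in the image of fully faithful functors, separation of morphisms.
-/

set_option autoImplicit false
set_option backward.isDefEq.respectTransparency false
set_option backward.isDefEq.respectTransparency.types false

universe v₅ u₅ v₄ u₄ v₃ u₃ v₂ u₂ v u

open CategoryTheory CategoryTheory.Functor

namespace Groth.Agent.StkLib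

open Groth.Agent.FibC

variable {C : Type u} [Category.{v} C] {𝒳 : BasedCategory.{v₃, u₃} C} {𝒴 : BasedCategory.{v₄, u₄} C}

/-- Two lifts of the same morphism with the same target differ by an isomorphism over an identity. -/
theorem lift_iso (h : FibCat.IsFibGrpd 𝒴.p) {R S : C} {a b y : 𝒴.obj} (f : R ⟶ S) (φ : a ⟶ y)
    (ψ : b ⟶ y) [𝒴.p.IsHomLift f φ] [𝒴.p.IsHomLift f ψ] :
    ∃ e : a ≅ b, 𝒴.p.IsHomLift (𝟙 R) e.hom ∧ e.hom ≫ ψ = φ := by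
  have := sc_of_fibGrpd h f ψ
  obtain ⟨χ, ⟨h1, h2⟩, -⟩ :=
    IsStronglyCartesian.universal_property 𝒴.p f ψ (𝟙 R) f (Category.id_comp f).symm φ
  have : IsIso χ := isIso_of_fibGrpd h (𝟙 R) χ
  exact ⟨asIso χ, h1, h2⟩

/-- `y` is, up to an isomorphism over an identity, a value of `E`. -/
def InImage (E : 𝒳 ⥤ᵇ 𝒴) (y : 𝒴.obj) : Prop :=
  ∃ (x : 𝒳.obj) (e : E.toFunctor.obj x ≅ y), 𝒴.p.IsHomLift (𝟙 (𝒴.p.obj y)) e.hom

theorem exists_factor (E : 𝒳 ⥤ᵇ 𝒴) [E.toFunctor.Full] [E.toFunctor.Faithful]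
    {𝒜 : BasedCategory.{v₅, u₅} C} (G : 𝒜 ⥤ᵇ 𝒴) (h : ∀ a, InImage E (G.toFunctor.obj a)) :
    ∃ G' : 𝒜 ⥤ᵇ 𝒳, Nonempty (BasedFunctor.comp G' E ≅ G) := by
  choose x e he using h
  have he' : ∀ a, 𝒴.p.IsHomLift (𝟙 (𝒜.p.obj a)) (e a).hom := fun a => by
    have := he a
    rwa [G.w_obj a] at this
  have hobj : ∀ a, 𝒳.p.obj (x a) = 𝒜.p.obj a := fun a =>
    (E.w_obj (x a)).symm.trans
      (have := he' a; IsHomLift.domain_eq 𝒴.p (𝟙 (𝒜.p.obj a)) (e a).hom)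
  let G₀ : 𝒜.obj ⥤ 𝒳.obj :=
    { obj := x
      map := fun {a b} f => E.toFunctor.preimage ((e a).hom ≫ G.toFunctor.map f ≫ (e b).inv)
      map_id := fun a => E.toFunctor.map_injective (by simp)
      map_comp := fun f g => E.toFunctor.map_injective (by simp) }
  have hlift : ∀ {a b : 𝒜.obj} (f : a ⟶ b), 𝒳.p.IsHomLift (𝒜.p.map f) (G₀.map f) := by
    intro a b f
    rw [← BasedFunctor.isHomLift_iff E]
    simp only [G₀, Functor.map_preimage]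
    have := he' a
    have := he' b
    infer_instance
  refine ⟨⟨G₀, CategoryTheory.Functor.ext hobj (fun a b f => ?_)⟩, ⟨natIsoMk e ?_ he'⟩⟩
  · have := hlift f
    exact IsHomLift.fac' 𝒳.p (𝒜.p.map f) (G₀.map f)
  · intro a b f
    change E.toFunctor.map (E.toFunctor.preimage _) ≫ (e b).hom = _
    simp

/-- An object which is locally in the image of a fully faithful functor from a stack to a prestack
is in the image. -/
theorem inImage_of_local {J : GrothendieckTopology C} (h𝒳 : Stk.IsStack J 𝒳)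
    (h𝒴 : Stk.IsPrestack J 𝒴) (E : 𝒳 ⥤ᵇ 𝒴) [E.toFunctor.Full] [E.toFunctor.Faithful]
    (y : 𝒴.obj) (R : Sieve (𝒴.p.obj y)) (hR : R ∈ J (𝒴.p.obj y))
    (hloc : ∀ ⦃V : C⦄ (f : V ⟶ 𝒴.p.obj y), R f →
      ∃ (x : 𝒳.obj) (ψ : E.toFunctor.obj x ⟶ y), 𝒴.p.IsHomLift f ψ) :
    InImage E y := by
  obtain ⟨G, e, he⟩ := exists_overLift_fibGrpd h𝒴.1 y rfl
  have hG : ∀ a : (Stk.sieveCat R).obj,
      InImage E (((Stk.resSieve R 𝒴).obj G).toFunctor.obj a) := fun a => by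
    obtain ⟨x, ψ, hψ⟩ := hloc a.obj.hom a.property
    have : 𝒴.p.IsHomLift a.obj.hom (G.toFunctor.map (toTop a.obj)) := map_lift G (toTop a.obj)
    have : 𝒴.p.IsHomLift a.obj.hom (G.toFunctor.map (toTop a.obj) ≫ e.hom) :=
      IsHomLift.comp_lift_id_right' 𝒴.p _ _ (𝒴.p.obj y) _
    obtain ⟨i, hi, -⟩ := lift_iso h𝒴.1 a.obj.hom ψ (G.toFunctor.map (toTop a.obj) ≫ e.hom)
    refine ⟨x, i, ?_⟩
    change 𝒴.p.IsHomLift (𝟙 (𝒴.p.obj (G.toFunctor.obj a.obj))) i.hom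
    rw [G.w_obj]
    exact hi
  obtain ⟨Φ, ⟨η⟩⟩ := exists_factor E _ hG
  have : (Stk.resSieve R 𝒳).IsEquivalence := h𝒳.2 R hR
  obtain ⟨_, _⟩ := h𝒴.2 R hR
  let H := (Stk.resSieve R 𝒳).objPreimage Φ
  let ε : (Stk.resSieve R 𝒴).obj (BasedFunctor.comp H E) ≅ (Stk.resSieve R 𝒴).obj G :=
    StFib.isoWhiskerRight ((Stk.resSieve R 𝒳).objObjPreimageIso Φ) E ≪≫ η
  let δ := (Stk.resSieve R 𝒴).preimageIso ε
  refine ⟨H.toFunctor.obj (overTop _), appIso δ (overTop _) ≪≫ e, ?_⟩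
  have : 𝒴.p.IsHomLift (𝟙 (𝒴.p.obj y)) (appIso δ (overTop (𝒴.p.obj y))).hom := appIso_lift δ rfl
  rw [Iso.trans_hom]
  exact inferInstanceAs (𝒴.p.IsHomLift (𝟙 (𝒴.p.obj y)) _)

/-- Two morphisms over an identity which agree locally are equal. -/
theorem hom_ext_for (hg : FibCat.IsFibGrpd 𝒳.p) {U : C}
    {R : Sieve U} (hp : (Stk.resSieve R 𝒳).Faithful) {x x' : 𝒳.obj} (φ φ' : x ⟶ x')
    [𝒳.p.IsHomLift (𝟙 U) φ]
    [𝒳.p.IsHomLift (𝟙 U) φ']
    (hloc : ∀ ⦃V : C⦄ (f : V ⟶ U), R f → ∀ (z : 𝒳.obj) (ν : z ⟶ x), 𝒳.p.IsHomLift f ν →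
      ν ≫ φ = ν ≫ φ') : φ = φ' := by
  obtain ⟨G, e, he⟩ := exists_overLift_fibGrpd hg x (IsHomLift.domain_eq 𝒳.p (𝟙 U) φ)
  obtain ⟨H, e', he'⟩ := exists_overLift_fibGrpd hg x' (IsHomLift.codomain_eq 𝒳.p (𝟙 U) φ)
  have hH := preserves_overCat hg H
  obtain ⟨α, hα⟩ := yoneda_surjective (G := G) hH (e.hom ≫ φ ≫ e'.inv)
  obtain ⟨β, hβ⟩ := yoneda_surjective (G := G) hH (e.hom ≫ φ' ≫ e'.inv)
  have hab : α = β := by
    apply (Stk.resSieve R 𝒳).map_injective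
    apply BasedNatTrans.homCategory.ext
    refine NatTrans.ext (funext fun a => ?_)
    change α.toNatTrans.app a.obj = β.toNatTrans.app a.obj
    have := map_sc hH (toTop a.obj)
    have : 𝒳.p.IsHomLift (𝟙 (Over.left a.obj)) (α.toNatTrans.app a.obj) :=
      BasedNatTrans.app_isHomLift α a.obj
    have : 𝒳.p.IsHomLift (𝟙 (Over.left a.obj)) (β.toNatTrans.app a.obj) :=
      BasedNatTrans.app_isHomLift β a.obj
    apply IsStronglyCartesian.ext 𝒳.p (toTop a.obj).left (H.toFunctor.map (toTop a.obj))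
      (𝟙 (Over.left a.obj))
    rw [← α.toNatTrans.naturality, ← β.toNatTrans.naturality, hα, hβ]
    have : 𝒳.p.IsHomLift a.obj.hom (G.toFunctor.map (toTop a.obj)) := map_lift G (toTop a.obj)
    have : 𝒳.p.IsHomLift a.obj.hom (G.toFunctor.map (toTop a.obj) ≫ e.hom) :=
      IsHomLift.comp_lift_id_right' 𝒳.p _ _ U _
    have := hloc a.obj.hom a.property _ (G.toFunctor.map (toTop a.obj) ≫ e.hom) this
    simp only [← Category.assoc] at this ⊢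
    rw [this]
  rw [hab, hβ] at hα
  simpa using hα.symm

/-- Two morphisms over an identity of a prestack which agree locally are equal. -/
theorem hom_ext_of_local {J : GrothendieckTopology C} (h : Stk.IsPrestack J 𝒳) {U : C}
    (R : Sieve U) (hR : R ∈ J U) {x x' : 𝒳.obj} (φ φ' : x ⟶ x') [𝒳.p.IsHomLift (𝟙 U) φ]
    [𝒳.p.IsHomLift (𝟙 U) φ']
    (hloc : ∀ ⦃V : C⦄ (f : V ⟶ U), R f → ∀ (z : 𝒳.obj) (ν : z ⟶ x), 𝒳.p.IsHomLift f ν →
      ν ≫ φ = ν ≫ φ') : φ = φ' :=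
  hom_ext_for h.1 (h.2 R hR).2 φ φ' hloc

end Groth.Agent.StkLib
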