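import Groth.Prelude.Def_AlgSt
import Groth.Agent.StkLib.Stack
import Mathlib.CategoryTheory.Sites.SheafOfTypes
import Mathlib.CategoryTheory.EqToHom

/-!
The category over `C` of a presheaf of sets is a stack iff the presheaf is a sheaf.
-/

set_option autoImplicit false
set_option backward.isDefEq.respectTransparency false
set_option backward.isDefEq.respectTransparency.types false

universe w v₂ u₂ v u

open CategoryTheory Opposite

namespace Groth.Agent.StkLib

variable {C : Type u} [Category.{v} C] {P : Cᵒᵖ ⥤ Type w} {𝒜 : BasedCategory.{v₂, u₂} C}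

theorem pmap_comp {X Y Z : C} (f : X ⟶ Y) (g : Y ⟶ Z) (s : P.obj (op Z)) :
    P.map f.op (P.map g.op s) = P.map (f ≫ g).op s := by
  rw [← Functor.map_comp_apply, ← op_comp]

/-- The section attached to an object by a functor to `Stk.ofPsh P`. -/
def secAt (Φ : 𝒜 ⥤ᵇ Stk.ofPsh P) (a : 𝒜.obj) : P.obj (op (𝒜.p.obj a)) :=
  P.map (eqToHom (Φ.w_obj a).symm).op (Φ.toFunctor.obj a).sec

theorem secAt_map (Φ : 𝒜 ⥤ᵇ Stk.ofPsh P) {a b : 𝒜.obj} (f : a ⟶ b) :
    P.map (𝒜.p.map f).op (secAt Φ b) = secAt Φ a := by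
  have h : (Φ.toFunctor.map f).hom =
      eqToHom (Φ.w_obj a) ≫ 𝒜.p.map f ≫ eqToHom (Φ.w_obj b).symm := Functor.congr_hom Φ.w f
  unfold secAt
  rw [← (Φ.toFunctor.map f).map_sec]
  refine (pmap_comp _ _ _).trans (Eq.trans ?_ (pmap_comp _ _ _).symm)
  rw [h]
  simp

/-- The functor to `Stk.ofPsh P` given by a compatible system of sections. -/
def ofSec (s : ∀ a : 𝒜.obj, P.obj (op (𝒜.p.obj a)))
    (hs : ∀ {a b : 𝒜.obj} (f : a ⟶ b), P.map (𝒜.p.map f).op (s b) = s a) : 𝒜 ⥤ᵇ Stk.ofPsh P where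
  toFunctor :=
    { obj := fun a => ⟨𝒜.p.obj a, s a⟩
      map := fun f => ⟨𝒜.p.map f, hs f⟩
      map_id := fun _ => Stk.EltObj.hom_ext (𝒜.p.map_id _)
      map_comp := fun _ _ => Stk.EltObj.hom_ext (𝒜.p.map_comp _ _) }
  w := rfl

@[simp] theorem secAt_ofSec (s : ∀ a : 𝒜.obj, P.obj (op (𝒜.p.obj a)))
    (hs : ∀ {a b : 𝒜.obj} (f : a ⟶ b), P.map (𝒜.p.map f).op (s b) = s a) (a : 𝒜.obj) :
    secAt (ofSec s hs) a = s a := by
  change P.map (𝟙 (op (𝒜.p.obj a))) (s a) = s a
  simp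

theorem hom_component {Φ Ψ : 𝒜 ⥤ᵇ Stk.ofPsh P} (α : Φ ⟶ Ψ) (a : 𝒜.obj) :
    (α.toNatTrans.app a).hom = eqToHom ((Φ.w_obj a).trans (Ψ.w_obj a).symm) := by
  have := α.isHomLift' a
  have h := IsHomLift.fac' (Stk.ofPsh P).p (𝟙 (𝒜.p.obj a)) (α.toNatTrans.app a)
  rw [Category.id_comp, eqToHom_trans] at h
  exact h

theorem subsingleton_hom (Φ Ψ : 𝒜 ⥤ᵇ Stk.ofPsh P) : Subsingleton (Φ ⟶ Ψ) :=
  ⟨fun α β => BasedNatTrans.homCategory.ext _ _ (NatTrans.ext (funext fun a =>
    Stk.EltObj.hom_ext ((hom_component α a).trans (hom_component β a).symm)))⟩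

theorem secAt_eq {Φ Ψ : 𝒜 ⥤ᵇ Stk.ofPsh P} (α : Φ ⟶ Ψ) (a : 𝒜.obj) : secAt Φ a = secAt Ψ a := by
  unfold secAt
  rw [← (α.toNatTrans.app a).map_sec]
  refine (pmap_comp _ _ _).trans ?_
  rw [hom_component α a]
  erw [eqToHom_trans]
  rfl

/-- The morphism between two functors to `Stk.ofPsh P` with the same sections. -/
def homOfSec {Φ Ψ : 𝒜 ⥤ᵇ Stk.ofPsh P} (h : ∀ a, secAt Φ a = secAt Ψ a) : Φ ⟶ Ψ where
  toNatTrans :=
    { app := fun a => ⟨eqToHom ((Φ.w_obj a).trans (Ψ.w_obj a).symm), by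
        have h' := congrArg (P.map (eqToHom (Φ.w_obj a)).op) (h a)
        unfold secAt at h'
        rw [← Functor.map_comp_apply, ← Functor.map_comp_apply, ← op_comp, ← op_comp,
          eqToHom_trans, eqToHom_trans] at h'
        simpa using h'.symm⟩
      naturality := fun a b f => Stk.EltObj.hom_ext (by
        have hf : (Φ.toFunctor.map f).hom = _ := Functor.congr_hom Φ.w f
        have hg : (Ψ.toFunctor.map f).hom = _ := Functor.congr_hom Ψ.w f
        simp [hf, hg]) }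
  isHomLift' a := IsHomLift.of_fac' _ _ _ (Φ.w_obj a) (Ψ.w_obj a) (by simp)

/-- The isomorphism between two functors to `Stk.ofPsh P` with the same sections. -/
def isoOfSec {Φ Ψ : 𝒜 ⥤ᵇ Stk.ofPsh P} (h : ∀ a, secAt Φ a = secAt Ψ a) : Φ ≅ Ψ where
  hom := homOfSec h
  inv := homOfSec (fun a => (h a).symm)
  hom_inv_id := (subsingleton_hom _ _).elim _ _
  inv_hom_id := (subsingleton_hom _ _).elim _ _

section sieve

variable {U : C} (R : Sieve U)

theorem secAt_over (Φ : FibCat.overCat U ⥤ᵇ Stk.ofPsh P) (a : Over U) :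
    secAt Φ a = P.map a.hom.op (secAt Φ (Over.mk (𝟙 U))) :=
  (secAt_map Φ (Over.homMk a.hom (by simp) : a ⟶ Over.mk (𝟙 U))).symm

theorem secAt_sieveIncl (Φ : FibCat.overCat U ⥤ᵇ Stk.ofPsh P) (a : (Stk.sieveCat R).obj) :
    secAt ((Stk.resSieve R (Stk.ofPsh P)).obj Φ) a = P.map a.obj.hom.op (secAt Φ (Over.mk (𝟙 U))) :=
  (secAt_over Φ a.obj)

theorem ofElt_hs (t : P.obj (op U)) {a b : (FibCat.overCat U).obj} (f : a ⟶ b) :
    P.map ((FibCat.overCat U).p.map f).op (P.map b.hom.op t) = P.map a.hom.op t := by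
  change P.map f.left.op (P.map b.hom.op t) = _
  rw [← Functor.map_comp_apply, ← op_comp, Over.w]

/-- The functor out of `C/U` given by one section over `U`. -/
def ofElt (t : P.obj (op U)) : FibCat.overCat U ⥤ᵇ Stk.ofPsh P :=
  ofSec (fun a => P.map a.hom.op t) (ofElt_hs t)

theorem secAt_ofElt (t : P.obj (op U)) :
    secAt (ofElt t) (Over.mk (𝟙 U)) = t := by
  refine Eq.trans (secAt_ofSec _ (ofElt_hs t) _) ?_
  change P.map (𝟙 (op U)) t = t
  simp

theorem isStackFor_ofPsh_iff :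
    Stk.IsStackFor R (Stk.ofPsh P) ↔ Presieve.IsSheafFor P R.arrows := by
  constructor
  · intro h x hx
    have : (Stk.resSieve R (Stk.ofPsh P)).IsEquivalence := h
    rw [Presieve.compatible_iff_sieveCompatible] at hx
    let Φ : Stk.sieveCat R ⥤ᵇ Stk.ofPsh P := ofSec (fun a => x a.obj.hom a.property)
      (fun {a b} f => by
        change P.map f.hom.left.op (x b.obj.hom b.property) = _
        rw [← hx b.obj.hom f.hom.left b.property]
        congr 1
        exact Over.w f.hom)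
    let Ψ := (Stk.resSieve R (Stk.ofPsh P)).objPreimage Φ
    have hΨ : ∀ ⦃V : C⦄ (f : V ⟶ U) (hf : R f),
        P.map f.op (secAt Ψ (Over.mk (𝟙 U))) = x f hf := fun V f hf => by
      have e := secAt_eq ((Stk.resSieve R (Stk.ofPsh P)).objObjPreimageIso Φ).hom ⟨Over.mk f, hf⟩
      rw [secAt_sieveIncl, secAt_ofSec] at e
      exact e
    refine ⟨secAt Ψ (Over.mk (𝟙 U)), hΨ, fun t ht => ?_⟩
    have e := secAt_eq ((Stk.resSieve R (Stk.ofPsh P)).preimage (X := ofElt t) (Y := Ψ)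
      (homOfSec fun a => ?_)) (Over.mk (𝟙 U))
    · rwa [secAt_ofElt] at e
    · rw [secAt_sieveIncl, secAt_sieveIncl, secAt_ofElt, hΨ a.obj.hom a.property,
        ht a.obj.hom a.property]
  · intro h
    have hf : (Stk.resSieve R (Stk.ofPsh P)).Faithful :=
      ⟨fun _ => (subsingleton_hom _ _).elim _ _⟩
    have hF : (Stk.resSieve R (Stk.ofPsh P)).Full := ⟨fun {Φ Ψ} γ => by
      have htop : secAt Φ (Over.mk (𝟙 U)) = secAt Ψ (Over.mk (𝟙 U)) :=
        h.isSeparatedFor.ext fun V f hf => by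
          have e := secAt_eq γ ⟨Over.mk f, hf⟩
          rwa [secAt_sieveIncl, secAt_sieveIncl] at e
      exact ⟨homOfSec (fun a => by rw [secAt_over, htop, ← secAt_over]),
        (subsingleton_hom _ _).elim _ _⟩⟩
    have he : (Stk.resSieve R (Stk.ofPsh P)).EssSurj := ⟨fun Φ => by
      let x : Presieve.FamilyOfElements P R.arrows := fun V f hf => secAt Φ ⟨Over.mk f, hf⟩
      have hx : x.Compatible := by
        rw [Presieve.compatible_iff_sieveCompatible]
        intro V W f g hf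
        let a : (Stk.sieveCat R).obj := ⟨Over.mk (g ≫ f), R.downward_closed hf g⟩
        let b : (Stk.sieveCat R).obj := ⟨Over.mk f, hf⟩
        exact (secAt_map Φ (ObjectProperty.homMk (Over.homMk g) : a ⟶ b)).symm
      obtain ⟨t, ht, -⟩ := h x hx
      exact ⟨ofElt t, ⟨isoOfSec fun a => by
        rw [secAt_sieveIncl, secAt_ofElt, ht a.obj.hom a.property]; rfl⟩⟩⟩
    exact { }

theorem isStack_ofPsh_iff (J : GrothendieckTopology C) :
    Stk.IsStack J (Stk.ofPsh P) ↔ Presieve.IsSheaf J P :=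
  ⟨fun h _ R hR => (isStackFor_ofPsh_iff R).1 (h.2 R hR),
    fun h => ⟨Stk.isFibGrpd_ofPsh P, fun _ R hR => (isStackFor_ofPsh_iff R).2 (h R hR)⟩⟩

/-- The slice as the category of the representable presheaf. -/
def overToPsh (U : C) : FibCat.overCat U ⥤ᵇ Stk.ofPsh (yoneda.obj U) where
  toFunctor :=
    { obj := fun a => ⟨a.left, a.hom⟩
      map := fun {a b} f => ⟨f.left, Over.w f⟩
      map_id := fun _ => Stk.EltObj.hom_ext rfl
      map_comp := fun _ _ => Stk.EltObj.hom_ext rfl }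
  w := rfl

theorem overToPsh_isEquivOver (U : C) : FibCat.IsEquivOver (overToPsh U) := by
  let G : Stk.ofPsh (yoneda.obj U) ⥤ᵇ FibCat.overCat U :=
    { toFunctor :=
        { obj := fun a => Over.mk (show a.base ⟶ U from a.sec)
          map := fun {a b} f => Over.homMk f.hom f.map_sec }
      w := rfl }
  refine ⟨G, ⟨natIsoMk (fun a => Iso.refl a) ?_ ?_⟩, ⟨natIsoMk (fun a => Iso.refl a) ?_ ?_⟩⟩
  · intro a b f
    exact (Category.comp_id _).trans (Category.id_comp _).symm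
  · intro a
    exact IsHomLift.id rfl
  · intro a b f
    exact (Category.comp_id _).trans (Category.id_comp _).symm
  · intro a
    exact IsHomLift.id rfl

theorem isStack_overCat_iff (J : GrothendieckTopology C) (U : C) :
    Stk.IsStack J (FibCat.overCat U) ↔ Presieve.IsSheaf J (yoneda.obj U) :=
  (isStack_iff (overToPsh_isEquivOver U) J).trans (isStack_ofPsh_iff J)

end sieve

end Groth.Agent.StkLib
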