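import Groth.Prelude.Def_FibCat2
import Groth.Agent.FibC.Basic
import Mathlib.CategoryTheory.Sites.InducedTopology
import Mathlib.CategoryTheory.Sites.Over
import Mathlib.CategoryTheory.Sites.CoverLifting
import Mathlib.CategoryTheory.Sites.PrecoverageToGrothendieck

/-!
The restricted topology on a category fibred in groupoids over a site.
-/

set_option autoImplicit false
set_option backward.isDefEq.respectTransparency false
set_option backward.isDefEq.respectTransparency.types false

universe w v₃ u₃ v₂ u₂ v u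

open CategoryTheory CategoryTheory.Functor Opposite

namespace Groth.Agent.StkLib

open Groth.Agent.FibC

variable {C : Type u} [Category.{v} C] {𝒳 : Type u₂} [Category.{v₂} 𝒳] {p : 𝒳 ⥤ C}

/-- Membership in the image of a sieve can be tested on any lift. -/
theorem push_iff (hp : FibCat.IsFibGrpd p) {x : 𝒳} (S : Sieve x) {V : C} (g : V ⟶ p.obj x)
    {w : 𝒳} (ν : w ⟶ x) [p.IsHomLift g ν] : S.functorPushforward p g ↔ S ν := by
  constructor
  · rintro ⟨z, h, k, hh, hk⟩
    obtain ⟨w', k', hk'⟩ := exists_lift' hp (x := z) rfl k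
    have h1 : p.IsHomLift g (k' ≫ h) := by rw [hk]; infer_instance
    have := sc_of_fibGrpd hp g (k' ≫ h)
    obtain ⟨χ, ⟨-, hχ⟩, -⟩ := IsStronglyCartesian.universal_property p g (k' ≫ h) (𝟙 V) g
      (Category.id_comp g).symm ν
    rw [← hχ, ← Category.assoc]
    exact S.downward_closed hh _
  · intro hν
    have hw := IsHomLift.domain_eq p g ν
    subst hw
    refine ⟨w, ν, 𝟙 _, hν, ?_⟩
    rw [Category.id_comp]
    exact IsHomLift.eq_of_isHomLift p g ν

theorem push_pullback (hp : FibCat.IsFibGrpd p) {x y : 𝒳} (φ : y ⟶ x) (S : Sieve x) :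
    (S.pullback φ).functorPushforward p = (S.functorPushforward p).pullback (p.map φ) := by
  ext V g
  obtain ⟨w, ν, hν⟩ := exists_lift' hp (x := y) rfl g
  rw [push_iff hp _ g ν, Sieve.pullback_apply, Sieve.pullback_apply,
    push_iff hp S (g ≫ p.map φ) (ν ≫ φ)]

/-- The sieves whose image is covering. -/
def pushTopology (hp : FibCat.IsFibGrpd p) (J : GrothendieckTopology C) : GrothendieckTopology 𝒳 where
  sieves x := {S | S.functorPushforward p ∈ J (p.obj x)}
  top_mem' x := by
    rw [Set.mem_setOf_eq, Sieve.functorPushforward_top]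
    exact J.top_mem _
  pullback_stable' x y S φ hS := by
    rw [Set.mem_setOf_eq, push_pullback hp]
    exact J.pullback_stable _ hS
  transitive' x S hS R hR := by
    refine J.transitive hS _ (fun V g hg => ?_)
    obtain ⟨w, ν, hν⟩ := exists_lift' hp (x := x) rfl g
    have h := hR ((push_iff hp S g ν).1 hg)
    rw [Set.mem_setOf_eq, push_pullback hp] at h
    have hw := IsHomLift.domain_eq p g ν
    subst hw
    rwa [← IsHomLift.eq_of_isHomLift p g ν] at h

theorem restrictedTopology_eq (hp : FibCat.IsFibGrpd p) (J : GrothendieckTopology C) :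
    p.restrictedTopology J = pushTopology hp J := by
  refine le_antisymm ?_ (fun x S hS => mem_restrictedTopology_of_functorPushforward_mem hS)
  refine Precoverage.toGrothendieck_le_iff_le_toPrecoverage.2 (fun x R hR => ?_)
  show (Sieve.generate R).functorPushforward p ∈ J (p.obj x)
  rw [← Sieve.generate_map_eq_functorPushforward]
  exact hR

theorem mem_restricted_iff (hp : FibCat.IsFibGrpd p) (J : GrothendieckTopology C) {x : 𝒳}
    (S : Sieve x) : S ∈ p.restrictedTopology J x ↔ S.functorPushforward p ∈ J (p.obj x) := by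
  rw [restrictedTopology_eq hp J]
  exact Iff.rfl

section functor

variable {A B : BasedCategory.{v₃, u₃} C}

theorem coverPreserving_restricted (hA : FibCat.IsFibGrpd A.p) (hB : FibCat.IsFibGrpd B.p)
    (J : GrothendieckTopology C) (F : A ⥤ᵇ B) :
    CoverPreserving (A.p.restrictedTopology J) (B.p.restrictedTopology J) F.toFunctor := by
  constructor
  intro x S hS
  rw [mem_restricted_iff hA] at hS
  rw [mem_restricted_iff hB]
  refine J.superset_covering ?_ (J.pullback_stable (eqToHom (F.w_obj x)) hS)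
  intro V g hg
  obtain ⟨w, ν, hν⟩ := exists_lift' hA (x := x) rfl (g ≫ eqToHom (F.w_obj x))
  have h : B.p.IsHomLift g (F.toFunctor.map ν) := by
    have : B.p.IsHomLift (g ≫ eqToHom (F.w_obj x)) (F.toFunctor.map ν) := inferInstance
    exact (IsHomLift.lift_comp_eqToHom_iff _ _ _ _).1 this
  rw [push_iff hB _ g (F.toFunctor.map ν)]
  exact ⟨w, ν, 𝟙 _, (push_iff hA S _ ν).1 hg, (Category.id_comp _).symm⟩

theorem isCocontinuous_restricted (hA : FibCat.IsFibGrpd A.p) (hB : FibCat.IsFibGrpd B.p)
    (J : GrothendieckTopology C) (F : A ⥤ᵇ B) :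
    F.toFunctor.IsCocontinuous (A.p.restrictedTopology J) (B.p.restrictedTopology J) := by
  constructor
  intro x S hS
  rw [mem_restricted_iff hB] at hS
  rw [mem_restricted_iff hA]
  refine J.superset_covering ?_ (J.pullback_stable (eqToHom (F.w_obj x).symm) hS)
  intro V g hg
  obtain ⟨w, ν, hν⟩ := exists_lift' hA (x := x) rfl g
  rw [push_iff hA _ g ν]
  have : B.p.IsHomLift g (F.toFunctor.map ν) := inferInstance
  have : B.p.IsHomLift (g ≫ eqToHom (F.w_obj x).symm) (F.toFunctor.map ν) := inferInstance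
  exact (push_iff hB S _ (F.toFunctor.map ν)).1 hg

theorem compatiblePreserving_restricted (hA : FibCat.IsFibGrpd A.p) (hB : FibCat.IsFibGrpd B.p)
    (K : GrothendieckTopology B.obj) (F : A ⥤ᵇ B) :
    CompatiblePreserving.{w} K F.toFunctor := by
  constructor
  intro ℱ Z T x hx Y₁ Y₂ X f₁ f₂ g₁ g₂ hg₁ hg₂ h
  obtain ⟨W, ν₁, hν₁⟩ := exists_lift' hA (x := Y₁) (F.w_obj Y₁).symm (B.p.map f₁)
  have h1 : B.p.IsHomLift (B.p.map f₁) (F.toFunctor.map ν₁) := inferInstance
  have := sc_of_fibGrpd hB (B.p.map f₁) (F.toFunctor.map ν₁)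
  obtain ⟨i, ⟨hi, hi'⟩, -⟩ := IsStronglyCartesian.universal_property B.p (B.p.map f₁)
    (F.toFunctor.map ν₁) (𝟙 (B.p.obj X)) (B.p.map f₁) (Category.id_comp _).symm f₁
  have hm : B.p.map f₁ ≫ B.p.map (F.toFunctor.map g₁) = B.p.map f₂ ≫ B.p.map (F.toFunctor.map g₂) := by
    rw [← Functor.map_comp, ← Functor.map_comp, h]
  have : A.p.IsHomLift (B.p.map (F.toFunctor.map g₁)) g₁ :=
    (BasedFunctor.isHomLift_iff F _ _).1 inferInstance
  have : A.p.IsHomLift (B.p.map (F.toFunctor.map g₂)) g₂ :=
    (BasedFunctor.isHomLift_iff F _ _).1 inferInstance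
  have := sc_of_fibGrpd hA (B.p.map (F.toFunctor.map g₂)) g₂
  obtain ⟨ν₂, ⟨hν₂, hν₂'⟩, -⟩ := IsStronglyCartesian.universal_property A.p
    (B.p.map (F.toFunctor.map g₂)) g₂ (B.p.map f₂) _ hm (ν₁ ≫ g₁)
  have h2 : i ≫ F.toFunctor.map ν₂ = f₂ := by
    have := sc_of_fibGrpd hB (B.p.map (F.toFunctor.map g₂)) (F.toFunctor.map g₂)
    apply IsStronglyCartesian.ext B.p (B.p.map (F.toFunctor.map g₂)) (F.toFunctor.map g₂) (B.p.map f₂)
    rw [Category.assoc, ← F.toFunctor.map_comp, hν₂', F.toFunctor.map_comp, ← Category.assoc, hi', h]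
  have key := hx ν₁ ν₂ hg₁ hg₂ hν₂'.symm
  have key' := congrArg (ℱ.obj.map i.op) key
  simp only [Functor.comp_map, Functor.op_map, Quiver.Hom.unop_op] at key'
  erw [← Functor.map_comp_apply, ← Functor.map_comp_apply, ← op_comp, ← op_comp, hi', h2] at key'
  exact key'

theorem isContinuous_restricted (hA : FibCat.IsFibGrpd A.p) (hB : FibCat.IsFibGrpd B.p)
    (J : GrothendieckTopology C) (F : A ⥤ᵇ B) :
    F.toFunctor.IsContinuous (A.p.restrictedTopology J) (B.p.restrictedTopology J) :=
  isContinuous_of_coverPreserving (compatiblePreserving_restricted hA hB _ F)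
    (coverPreserving_restricted hA hB J F)

end functor

section over

theorem overPost_isEquivalence (hp : FibCat.IsFibGrpd p) (x : 𝒳) :
    (Over.post p : Over x ⥤ Over (p.obj x)).IsEquivalence := by
  refine { faithful := ⟨fun {a b} f g h => ?_⟩, full := ⟨fun {a b} g => ?_⟩, essSurj := ⟨fun a => ?_⟩ }
  · have h' : p.map f.left = p.map g.left := congrArg (fun m => m.left) h
    have : p.IsHomLift (p.map f.left) g.left := by rw [h']; infer_instance
    have := hp.isStronglyCartesian b.hom
    apply Over.OverMorphism.ext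
    apply IsStronglyCartesian.ext p (p.map b.hom) b.hom (p.map f.left)
    rw [Over.w, Over.w]
  · have := hp.isStronglyCartesian b.hom
    obtain ⟨χ, ⟨hχ, hχ'⟩, -⟩ := IsStronglyCartesian.universal_property p (p.map b.hom) b.hom
      g.left (p.map a.hom) (Over.w g).symm a.hom
    exact ⟨Over.homMk χ hχ', Over.OverMorphism.ext (IsHomLift.eq_of_isHomLift p g.left χ).symm⟩
  · obtain ⟨y, φ, hφ⟩ := hp.exists_lift a.hom
    refine ⟨Over.mk φ, ⟨Over.isoMk (eqToIso (IsHomLift.domain_eq p a.hom φ)) ?_⟩⟩
    show eqToHom (IsHomLift.domain_eq p a.hom φ) ≫ a.hom = p.map φ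
    rw [IsHomLift.fac' p a.hom φ]
    simp

theorem over_restricted_iff (hp : FibCat.IsFibGrpd p) (J : GrothendieckTopology C) {x : 𝒳}
    (a : Over x) (S : Sieve a) :
    S ∈ (p.restrictedTopology J).over x a ↔
      S.functorPushforward (Over.post p) ∈ (J.over (p.obj x)) ((Over.post p).obj a) := by
  rw [GrothendieckTopology.mem_over_iff, GrothendieckTopology.mem_over_iff, mem_restricted_iff hp]
  have key : Sieve.overEquiv ((Over.post p).obj a) (S.functorPushforward (Over.post p)) =
      (Sieve.overEquiv a S).functorPushforward p := by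
    ext V g
    rw [Sieve.overEquiv_iff]
    constructor
    · rintro ⟨b, m, k, hm, hk⟩
      refine ⟨b.left, m.left, k.left, ?_, congrArg (fun t => t.left) hk⟩
      rw [Sieve.overEquiv_iff]
      have e : (Over.homMk (𝟙 b.left) (by simp) : Over.mk (m.left ≫ a.hom) ⟶ b) ≫ m =
          (Over.homMk m.left rfl : Over.mk (m.left ≫ a.hom) ⟶ a) :=
        Over.OverMorphism.ext (Category.id_comp m.left)
      rw [← e]
      exact S.downward_closed hm _
    · rintro ⟨z, m, k, hm, hk⟩
      rw [Sieve.overEquiv_iff] at hm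
      refine ⟨Over.mk (m ≫ a.hom), Over.homMk m rfl, Over.homMk k ?_, hm, Over.OverMorphism.ext hk⟩
      show k ≫ p.map (m ≫ a.hom) = g ≫ p.map a.hom
      rw [hk, p.map_comp, Category.assoc]
  rw [key]
  exact Iff.rfl

end over

end Groth.Agent.StkLib
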