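import Groth.Agent.StkLib.LiftStack
import Groth.Agent.StkLib.Top
import Groth.Agent.StkLib.Glue

/-!
Comparison of sieves over an object of a category fibred in groupoids with sieves over its image.
-/

set_option autoImplicit false
set_option backward.isDefEq.respectTransparency false
set_option backward.isDefEq.respectTransparency.types false

universe v₃ u₃ v₂ u₂ v u

open CategoryTheory CategoryTheory.Functor

namespace Groth.Agent.StkLib

open Groth.Agent.FibC

variable {C : Type u} [Category.{v} C] {𝒳 : BasedCategory.{v₂, u₂} C}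

section slice

variable {U : C} (R : Sieve U) {x : 𝒳.obj} (hx : 𝒳.p.obj x = U)

/-- The functor of slices `φ ↦ p φ`. -/
def sliceMap : Over x ⥤ Over U := Over.post 𝒳.p ⋙ Over.map (eqToHom hx)

/-- The sieve on `x` of morphisms lying over `R`. -/
def sieveUp : Sieve x where
  arrows y φ := R (𝒳.p.map φ ≫ eqToHom hx)
  downward_closed {y z φ} hφ g := by
    show R (𝒳.p.map (g ≫ φ) ≫ eqToHom hx)
    rw [Functor.map_comp, Category.assoc]
    exact R.downward_closed hφ _

/-- The functor between the two sieves. -/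
def sieveSliceMap : (Stk.sieveCat (sieveUp R hx)).obj ⥤ (Stk.sieveCat R).obj where
  obj b := ⟨(sliceMap hx).obj b.obj, b.property⟩
  map k := ObjectProperty.homMk ((sliceMap hx).map k.hom)
  map_id _ := ObjectProperty.hom_ext _ ((sliceMap hx).map_id _)
  map_comp _ _ := ObjectProperty.hom_ext _ ((sliceMap hx).map_comp _ _)

variable (hX : FibCat.IsFibGrpd 𝒳.p)

include hX in
theorem sliceMap_isEquivalence : (sliceMap (𝒳 := 𝒳) hx).IsEquivalence := by
  have := overPost_isEquivalence hX x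
  unfold sliceMap
  infer_instance

include hX in
theorem sieveSliceMap_isEquivalence : (sieveSliceMap R (𝒳 := 𝒳) hx).IsEquivalence := by
  have := sliceMap_isEquivalence hx hX
  refine { faithful := ⟨fun {a b} k l h => ?_⟩, full := ⟨fun {a b} g => ?_⟩, essSurj := ⟨fun a => ?_⟩ }
  · exact ObjectProperty.hom_ext _ ((sliceMap hx).map_injective (congrArg (fun t => t.hom) h))
  · exact ⟨ObjectProperty.homMk ((sliceMap hx).preimage g.hom),
      ObjectProperty.hom_ext _ ((sliceMap hx).map_preimage _)⟩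
  · let b := (sliceMap hx).objPreimage a.obj
    let i : (sliceMap hx).obj b ≅ a.obj := (sliceMap hx).objObjPreimageIso a.obj
    have hb : R ((sliceMap hx).obj b).hom := by
      rw [← Over.w i.hom]
      exact R.downward_closed a.property _
    exact ⟨⟨b, hb⟩, ⟨ObjectProperty.isoMk _ i⟩⟩

include hX in
theorem exists_sigma (G : FibCat.overCat U ⥤ᵇ 𝒳)
    (e : G.toFunctor.obj (overTop U) ≅ x) (he : 𝒳.p.IsHomLift (𝟙 U) e.hom) :
    Nonempty (Over.forget x ≅ sliceMap hx ⋙ G.toFunctor) := by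
  let m : ∀ b : Over x, G.toFunctor.obj ((sliceMap hx).obj b) ⟶ x := fun b =>
    G.toFunctor.map (toTop ((sliceMap hx).obj b)) ≫ e.hom
  have hm : ∀ b, 𝒳.p.IsHomLift ((sliceMap hx).obj b).hom (m b) := fun b => by
    have : 𝒳.p.IsHomLift ((sliceMap hx).obj b).hom (G.toFunctor.map (toTop ((sliceMap hx).obj b))) :=
      map_lift G (toTop ((sliceMap hx).obj b))
    exact IsHomLift.comp_lift_id_right' 𝒳.p _ _ U _
  have hb : ∀ b : Over x, 𝒳.p.IsHomLift ((sliceMap hx).obj b).hom b.hom := fun b =>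
    inferInstanceAs (𝒳.p.IsHomLift (𝒳.p.map b.hom ≫ eqToHom hx) b.hom)
  choose s hs hs' using fun b => (have := hm b; have := hb b;
    lift_iso hX ((sliceMap hx).obj b).hom b.hom (m b))
  refine ⟨NatIso.ofComponents s (fun {b b'} k => ?_)⟩
  have := hm b'
  have := sc_of_fibGrpd hX ((sliceMap hx).obj b').hom (m b')
  have : 𝒳.p.IsHomLift (𝟙 ((sliceMap hx).obj b).left) (s b).hom := hs b
  have : 𝒳.p.IsHomLift (𝟙 ((sliceMap hx).obj b').left) (s b').hom := hs b'
  have : 𝒳.p.IsHomLift ((sliceMap hx).map k).left k.left :=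
    inferInstanceAs (𝒳.p.IsHomLift (𝒳.p.map k.left) k.left)
  have : 𝒳.p.IsHomLift ((sliceMap hx).map k).left (G.toFunctor.map ((sliceMap hx).map k)) :=
    map_lift G ((sliceMap hx).map k)
  show k.left ≫ (s b').hom = (s b).hom ≫ G.toFunctor.map ((sliceMap hx).map k)
  apply IsStronglyCartesian.ext 𝒳.p ((sliceMap hx).obj b').hom (m b') ((sliceMap hx).map k).left
  rw [Category.assoc, hs', Over.w k, Category.assoc]
  have ht : (sliceMap hx).map k ≫ toTop ((sliceMap hx).obj b') = toTop ((sliceMap hx).obj b) :=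
    Over.OverMorphism.ext (Over.w ((sliceMap hx).map k))
  show b.hom = (s b).hom ≫ G.toFunctor.map ((sliceMap hx).map k) ≫
    G.toFunctor.map (toTop ((sliceMap hx).obj b')) ≫ e.hom
  rw [← G.toFunctor.map_comp_assoc, ht]
  exact (hs' b).symm

include hX in
theorem restr_slice_iff {Y : Type u₃} [Category.{v₃} Y] {q : Y ⥤ 𝒳.obj} (hq : IsoLift q)
    (G : FibCat.overCat U ⥤ᵇ 𝒳) (e : G.toFunctor.obj (overTop U) ≅ x)
    (he : 𝒳.p.IsHomLift (𝟙 U) e.hom) :
    (Stk.restr (overIncl (Stk.sieveIncl R) G) (BasedCategory.ofFunctor q)).IsEquivalence ↔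
      Stk.IsStackFor (sieveUp R hx) (BasedCategory.ofFunctor q) := by
  obtain ⟨σ⟩ := exists_sigma hx hX G e he
  have := sliceMap_isEquivalence hx hX
  have := sieveSliceMap_isEquivalence R hx hX
  let σ₀ : (sieveUp R hx).arrows.diagram ≅
      sieveSliceMap R hx ⋙ (BasedFunctor.comp (Stk.sieveIncl R) G).toFunctor :=
    NatIso.ofComponents (fun b => σ.app b.obj) (fun k => σ.hom.naturality k.hom)
  exact restr_lifts_iff hq (overIncl (Stk.sieveIncl R) G) (Stk.sieveIncl (sieveUp R hx))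
    (sliceMap hx) σ (sieveSliceMap R hx) σ₀
    (NatIso.ofComponents (fun b => Iso.refl _) (fun k => by
      erw [Category.comp_id, Category.id_comp]; rfl))
    (fun b => by
      show σ.hom.app b.obj = 𝟙 _ ≫ σ.hom.app b.obj ≫ G.toFunctor.map (𝟙 _) ≫ 𝟙 _
      rw [CategoryTheory.Functor.map_id]
      erw [Category.id_comp, Category.id_comp, Category.comp_id])

end slice

theorem isFibGrpd_comp {D : Type u₂} [Category.{v₂} D] {E : Type u₃} [Category.{v₃} E]
    {q : E ⥤ D} {p : D ⥤ C} (hq : FibCat.IsFibGrpd q) (hp : FibCat.IsFibGrpd p) :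
    FibCat.IsFibGrpd (q ⋙ p) := by
  constructor
  · intro a V f
    obtain ⟨y, φ, hφ⟩ := hp.exists_lift (x := q.obj a) f
    obtain ⟨b, ψ, hψ⟩ := hq.exists_lift (x := a) φ
    refine ⟨b, ψ, ?_⟩
    have hy := IsHomLift.domain_eq p f φ
    have hb := IsHomLift.domain_eq q φ ψ
    subst hy hb
    have e1 : φ = q.map ψ := IsHomLift.eq_of_isHomLift q φ ψ
    have e2 : f = p.map φ := IsHomLift.eq_of_isHomLift p f φ
    rw [e2, e1]
    exact IsHomLift.map (q ⋙ p) ψ
  · intro b a ψ
    exact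
      { universal_property' := fun {c} g ψ' hψ' => by
          have hlift : (q ⋙ p).IsHomLift (g ≫ p.map (q.map ψ)) ψ' := hψ'
          have e : p.map (q.map ψ') = g ≫ p.map (q.map ψ) :=
            (IsHomLift.eq_of_isHomLift (q ⋙ p) (g ≫ p.map (q.map ψ)) ψ').symm
          have : p.IsHomLift (g ≫ p.map (q.map ψ)) (q.map ψ') := by rw [← e]; infer_instance
          have := hp.isStronglyCartesian (q.map ψ)
          obtain ⟨χ, ⟨hχ, hχ'⟩, huχ⟩ := IsStronglyCartesian.universal_property p (p.map (q.map ψ))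
            (q.map ψ) g (g ≫ p.map (q.map ψ)) rfl (q.map ψ')
          have := hq.isStronglyCartesian ψ
          obtain ⟨θ, ⟨hθ, hθ'⟩, huθ⟩ := IsStronglyCartesian.universal_property q (q.map ψ) ψ χ
            (q.map ψ') hχ'.symm ψ'
          have e1 : χ = q.map θ := IsHomLift.eq_of_isHomLift q χ θ
          have e2 : g = p.map χ := IsHomLift.eq_of_isHomLift p g χ
          refine ⟨θ, ⟨?_, hθ'⟩, ?_⟩
          · rw [e2, e1]
            exact IsHomLift.map (q ⋙ p) θ
          · rintro θ' ⟨h1, h2⟩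
            refine huθ θ' ⟨?_, h2⟩
            have : q.map θ' = χ := huχ _ ⟨by
              rw [IsHomLift.eq_of_isHomLift (q ⋙ p) g θ']
              exact IsHomLift.map p (q.map θ'), by rw [← q.map_comp, h2]⟩
            rw [← this]
            infer_instance }

theorem isStack_restricted (J : GrothendieckTopology C) {𝒳 : BasedCategory.{v₂, u₂} C}
    {𝒴 : BasedCategory.{v₃, u₃} C} (hY : Stk.IsStack J 𝒴) (hX : Stk.IsPrestack J 𝒳) (F : 𝒴 ⥤ᵇ 𝒳)
    (hF : FibCat.IsFibGrpd F.toFunctor) :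
    Stk.IsStack (𝒳.p.restrictedTopology J) (BasedCategory.ofFunctor F.toFunctor) := by
  refine ⟨hF, fun x R' hR' => ?_⟩
  rw [mem_restricted_iff hX.1] at hR'
  obtain ⟨G, e, he⟩ := exists_overLift_fibGrpd hX.1 x rfl
  have : (Stk.restr (Stk.sieveIncl (R'.functorPushforward 𝒳.p)) 𝒴).IsEquivalence := hY.2 _ hR'
  obtain ⟨_, _⟩ := hX.2 _ hR'
  have h1 := restr_lifts_of_restr F (Stk.sieveIncl (R'.functorPushforward 𝒳.p))
    (isoLift_of_fibGrpd hF) G
  have h2 := (restr_slice_iff (R'.functorPushforward 𝒳.p) rfl hX.1 (isoLift_of_fibGrpd hF) G e he).1 h1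
  have e : sieveUp (R'.functorPushforward 𝒳.p) (x := x) rfl = R' := by
    ext y φ
    show R'.functorPushforward 𝒳.p (𝒳.p.map φ ≫ eqToHom rfl) ↔ R' φ
    rw [eqToHom_refl, Category.comp_id]
    exact push_iff hX.1 R' _ φ
  rwa [e] at h2

theorem isStack_composite (J : GrothendieckTopology C) {𝒳 : BasedCategory.{v₂, u₂} C}
    (hX : Stk.IsStack J 𝒳) (𝒴 : BasedCategory.{v₃, u₃} 𝒳.obj)
    (hY : Stk.IsStack (𝒳.p.restrictedTopology J) 𝒴) :
    Stk.IsStack J (BasedCategory.ofFunctor (𝒴.p ⋙ 𝒳.p)) := by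
  refine ⟨isFibGrpd_comp hY.1 hX.1, fun U R hR => ?_⟩
  have : (Stk.restr (Stk.sieveIncl R) 𝒳).IsEquivalence := hX.2 R hR
  let π : BasedCategory.ofFunctor (𝒴.p ⋙ 𝒳.p) ⥤ᵇ 𝒳 := ⟨𝒴.p, rfl⟩
  refine restr_fibrewise_isEquivalence π (Stk.sieveIncl R) hX.1 (isoLift_of_fibGrpd hY.1) (fun G => ?_)
  refine (restr_slice_iff R (G.w_obj (overTop U)) hX.1 (isoLift_of_fibGrpd hY.1) G (Iso.refl _)
    (IsHomLift.id (G.w_obj (overTop U)))).2 (hY.2 _ ?_)
  rw [mem_restricted_iff hX.1]
  refine J.superset_covering ?_ (J.pullback_stable (eqToHom (G.w_obj (overTop U))) hR)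
  intro V g hg
  obtain ⟨w, ν, hν⟩ := exists_lift' hX.1 (x := G.toFunctor.obj (overTop U)) rfl g
  rw [push_iff hX.1 _ g ν]
  show R (𝒳.p.map ν ≫ eqToHom _)
  have hw := IsHomLift.domain_eq 𝒳.p g ν
  subst hw
  rwa [← IsHomLift.eq_of_isHomLift 𝒳.p g ν]

end Groth.Agent.StkLib
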