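import Groth.Agent.StkLib.Lift

/-!
Restriction of lifts, its invariance under reindexing, and the fibrewise criterion for restriction to be
an equivalence.
-/

set_option autoImplicit false
set_option backward.isDefEq.respectTransparency false
set_option backward.isDefEq.respectTransparency.types false

universe v₈ u₈ v₇ u₇ v₆ u₆ v₅ u₅ v₄ u₄ v₃ u₃ v₂ u₂ v₁ u₁ v u

open CategoryTheory CategoryTheory.Functor

namespace Groth.Agent.StkLib

section reindex

variable {X : Type u₁} [Category.{v₁} X] {Y : Type u₂} [Category.{v₂} Y] {q : Y ⥤ X}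
  {A : Type u₃} [Category.{v₃} A] {P : A ⥤ X} {A' : Type u₄} [Category.{v₄} A'] {P' : A' ⥤ X}
  {A₀ : Type u₅} [Category.{v₅} A₀] {P₀ : A₀ ⥤ X} {A₀' : Type u₆} [Category.{v₆} A₀'] {P₀' : A₀' ⥤ X}
  (hq : IsoLift q)
  (ι : BasedCategory.ofFunctor P₀ ⥤ᵇ BasedCategory.ofFunctor P)
  (ι' : BasedCategory.ofFunctor P₀' ⥤ᵇ BasedCategory.ofFunctor P')
  (d : A' ⥤ A) (σ : P' ≅ d ⋙ P) (d₀ : A₀' ⥤ A₀) (σ₀ : P₀' ≅ d₀ ⋙ P₀)
  (κ : ι'.toFunctor ⋙ d ≅ d₀ ⋙ ι.toFunctor)

/-- The compatibility of two reindexing data. -/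
def ReindexCompat : Prop :=
  ∀ a : A₀', σ₀.hom.app a =
    eqToHom (ι'.w_obj a).symm ≫ σ.hom.app (ι'.toFunctor.obj a) ≫ P.map (κ.hom.app a) ≫
      eqToHom (ι.w_obj (d₀.obj a))

variable (hκ : ReindexCompat ι ι' d σ d₀ σ₀ κ)

/-- One component of the comparison of restriction and reindexing. -/
noncomputable def reindexRestrComp (Φ : Lifts P q) :
    ((reindex hq d₀ σ₀).obj ((Stk.restr ι (BasedCategory.ofFunctor q)).obj Φ)).toFunctor ≅
      ((Stk.restr ι' (BasedCategory.ofFunctor q)).obj ((reindex hq d σ).obj Φ)).toFunctor :=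
  NatIso.ofComponents (fun a =>
    (transportIso hq _ (liftBase d₀ σ₀ ((Stk.restr ι (BasedCategory.ofFunctor q)).obj Φ))).app a ≪≫
      Φ.toFunctor.mapIso (κ.app a).symm ≪≫
      ((transportIso hq _ (liftBase d σ Φ)).app (ι'.toFunctor.obj a)).symm)
    (fun {a b} m => by
      have h1 := (transportIso hq _
        (liftBase d₀ σ₀ ((Stk.restr ι (BasedCategory.ofFunctor q)).obj Φ))).hom.naturality m
      have h2 := congrArg Φ.toFunctor.map (κ.inv.naturality m)
      have h3 := (transportIso hq _ (liftBase d σ Φ)).inv.naturality (ι'.toFunctor.map m)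
      simp only [Functor.map_comp] at h2
      simp only [Iso.trans_hom, Iso.app_hom, Functor.mapIso_hom, Iso.symm_hom, Iso.app_inv]
      erw [reassoc_of% h1]
      simp only [Category.assoc]
      congr 1
      erw [reassoc_of% h2]
      congr 1)

theorem reindexRestrComp_hom_app (Φ : Lifts P q) (a : A₀') :
    (reindexRestrComp hq ι ι' d σ d₀ σ₀ κ Φ).hom.app a =
      (transportIso hq _ (liftBase d₀ σ₀ ((Stk.restr ι (BasedCategory.ofFunctor q)).obj Φ))).hom.app a ≫
        Φ.toFunctor.map (κ.inv.app a) ≫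
          (transportIso hq _ (liftBase d σ Φ)).inv.app (ι'.toFunctor.obj a) := rfl

include hκ in
theorem reindexRestr_vert (Φ : Lifts P q) (a : A₀') :
    q.map ((reindexRestrComp hq ι ι' d σ d₀ σ₀ κ Φ).hom.app a) =
      eqToHom ((((reindex hq d₀ σ₀).obj ((Stk.restr ι (BasedCategory.ofFunctor q)).obj Φ)).w_obj a).trans
        (((Stk.restr ι' (BasedCategory.ofFunctor q)).obj ((reindex hq d σ).obj Φ)).w_obj a).symm) := by
  have hw : q.map (Φ.toFunctor.map (κ.inv.app a)) = _ := Functor.congr_hom Φ.w (κ.inv.app a)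
  rw [reindexRestrComp_hom_app]
  simp only [Functor.map_comp, transportIso_map, transportIso_map_inv, liftBase_hom_app,
    liftBase_inv_app]
  erw [hw]
  rw [hκ a]
  simp [BasedCategory.ofFunctor, ← Functor.map_comp_assoc]

/-- Restriction commutes with reindexing. -/
noncomputable def reindexRestrIso :
    Stk.restr ι (BasedCategory.ofFunctor q) ⋙ reindex hq d₀ σ₀ ≅
      reindex hq d σ ⋙ Stk.restr ι' (BasedCategory.ofFunctor q) :=
  NatIso.ofComponents (fun Φ => lmkIso (reindexRestrComp hq ι ι' d σ d₀ σ₀ κ Φ)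
    (reindexRestr_vert hq ι ι' d σ d₀ σ₀ κ hκ Φ)) (fun {Φ Ψ} α => by
      apply lifts_ext
      ext a
      have h := α.toNatTrans.naturality (κ.inv.app a)
      change (_ ≫ α.toNatTrans.app (ι.toFunctor.obj (d₀.obj a)) ≫ _) ≫ (_ ≫ _ ≫ _) =
        (_ ≫ _ ≫ _) ≫ (_ ≫ α.toNatTrans.app (d.obj (ι'.toFunctor.obj a)) ≫ _)
      simp only [Category.assoc]
      erw [Iso.inv_hom_id_app_assoc, Iso.inv_hom_id_app_assoc]
      erw [reassoc_of% h]
      rfl)

include hq hκ in
theorem restr_lifts_iff [d.IsEquivalence] [d₀.IsEquivalence] :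
    (Stk.restr ι (BasedCategory.ofFunctor q)).IsEquivalence ↔
      (Stk.restr ι' (BasedCategory.ofFunctor q)).IsEquivalence := by
  have := reindex_isEquivalence hq d σ
  have := reindex_isEquivalence hq d₀ σ₀
  have e := reindexRestrIso hq ι ι' d σ d₀ σ₀ κ hκ
  constructor
  · intro h
    have : (reindex hq d σ ⋙ Stk.restr ι' (BasedCategory.ofFunctor q)).IsEquivalence :=
      Functor.isEquivalence_of_iso e
    exact Functor.isEquivalence_of_comp_left (reindex hq d σ) _
  · intro h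
    have : (Stk.restr ι (BasedCategory.ofFunctor q) ⋙ reindex hq d₀ σ₀).IsEquivalence :=
      Functor.isEquivalence_of_iso e.symm
    exact Functor.isEquivalence_of_comp_right _ (reindex hq d₀ σ₀)

end reindex

section fibrewise

theorem based_ext {S : Type u} [Category.{v} S] {M : BasedCategory.{v₁, u₁} S}
    {N : BasedCategory.{v₂, u₂} S} {F G : M ⥤ᵇ N} (h : F.toFunctor = G.toFunctor) : F = G := by
  cases F; cases G; cases h; rfl

theorem app_congr {S : Type u} [Category.{v} S] {M : BasedCategory.{v₁, u₁} S}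
    {N : BasedCategory.{v₂, u₂} S} {F G : M ⥤ᵇ N} {α β : F ⟶ G} (h : α = β) (x : M.obj) :
    α.toNatTrans.app x = β.toNatTrans.app x := by
  rw [h]

variable {C : Type u} [Category.{v} C] {Z : BasedCategory.{v₁, u₁} C} {W : BasedCategory.{v₂, u₂} C}
  {A : BasedCategory.{v₃, u₃} C} {B : BasedCategory.{v₄, u₄} C} (π : Z ⥤ᵇ W) (ι : A ⥤ᵇ B)

/-- A lift as a functor over the base. -/
def ofLift {G : B ⥤ᵇ W} (Φ : Lifts G.toFunctor π.toFunctor) : B ⥤ᵇ Z where
  toFunctor := Φ.toFunctor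
  w := by
    have hΦ : Φ.toFunctor ⋙ π.toFunctor = G.toFunctor := Φ.w
    rw [← π.w, ← Functor.assoc, hΦ, G.w]

/-- A functor over the base as a lift of its composite. -/
def toLift (Φ : B ⥤ᵇ Z) : Lifts (BasedFunctor.comp Φ π).toFunctor π.toFunctor := ⟨Φ.toFunctor, rfl⟩

/-- The map of sources over `W`. -/
def overIncl (G : B ⥤ᵇ W) :
    BasedCategory.ofFunctor (BasedFunctor.comp ι G).toFunctor ⥤ᵇ BasedCategory.ofFunctor G.toFunctor :=
  ⟨ι.toFunctor, rfl⟩

theorem isHomLift_of_map_eqToHom {S : C} {a b : Z.obj} (φ : a ⟶ b)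
    (h : π.toFunctor.obj a = π.toFunctor.obj b) (e : π.toFunctor.map φ = eqToHom h)
    (ha : Z.p.obj a = S) : Z.p.IsHomLift (𝟙 S) φ := by
  rw [← BasedFunctor.isHomLift_iff π, e]
  exact IsHomLift.eqToHom_domain_lift_id h ((π.w_obj a).trans ha)

/-- A morphism of lifts as a 2-morphism over the base. -/
def ofLiftHom {G : B ⥤ᵇ W} {Φ Ψ : Lifts G.toFunctor π.toFunctor} (α : Φ ⟶ Ψ) :
    ofLift π Φ ⟶ ofLift π Ψ where
  toNatTrans := α.toNatTrans
  isHomLift' a := isHomLift_of_map_eqToHom π _ _ (lifts_map_app α a) ((ofLift π Φ).w_obj a)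

theorem exists_liftTransport (hπ : IsoLift π.toFunctor) (Φ : B ⥤ᵇ Z) (G : B ⥤ᵇ W)
    (δ : G ≅ BasedFunctor.comp Φ π) :
    ∃ (Φ' : Lifts G.toFunctor π.toFunctor) (ρ : ofLift π Φ' ≅ Φ),
      ∀ a, π.toFunctor.map (ρ.hom.toNatTrans.app a) =
        eqToHom (Φ'.w_obj a) ≫ δ.hom.toNatTrans.app a := by
  let σ : G.toFunctor ≅ Φ.toFunctor ⋙ π.toFunctor := (BasedNatTrans.forgetful _ _).mapIso δ
  refine ⟨transport hπ Φ.toFunctor σ, natIsoMk (fun a => (transportIso hπ Φ.toFunctor σ).app a)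
    (fun f => (transportIso hπ Φ.toFunctor σ).hom.naturality f) (fun a => ?_),
    fun a => transportIso_map hπ Φ.toFunctor σ a⟩
  rw [← BasedFunctor.isHomLift_iff π]
  change W.p.IsHomLift _ (π.toFunctor.map ((transportIso hπ Φ.toFunctor σ).hom.app a))
  rw [transportIso_map]
  have : W.p.IsHomLift (𝟙 (B.p.obj a)) (σ.hom.app a) := δ.hom.isHomLift' a
  infer_instance

theorem restr_fibrewise_faithful (hπ : IsoLift π.toFunctor) [(Stk.restr ι W).Faithful]
    (hL : ∀ G : B ⥤ᵇ W, (Stk.restr (overIncl ι G) (BasedCategory.ofFunctor π.toFunctor)).Faithful)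
    (hW : ∀ {G G' : B ⥤ᵇ W} (δ : G ⟶ G'), IsIso δ) : (Stk.restr ι Z).Faithful := by
  constructor
  intro Φ Ψ α β hαβ
  have hπαβ : BasedCategory.whiskerRight α π = BasedCategory.whiskerRight β π := by
    apply (Stk.restr ι W).map_injective
    apply BasedNatTrans.homCategory.ext
    ext x
    exact congrArg π.toFunctor.map (app_congr hαβ x :)
  have := hW (BasedCategory.whiskerRight α π)
  obtain ⟨Ψ', ρ, hρ⟩ := exists_liftTransport π hπ Ψ (BasedFunctor.comp Φ π)
    (asIso (BasedCategory.whiskerRight α π))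
  have key : ∀ (θ : Φ ⟶ Ψ), BasedCategory.whiskerRight θ π = BasedCategory.whiskerRight α π →
      ∃ θ' : toLift π Φ ⟶ Ψ', ∀ a, θ'.toNatTrans.app a =
        θ.toNatTrans.app a ≫ ρ.inv.toNatTrans.app a := by
    intro θ hθ
    refine ⟨lmk (Φ := toLift π Φ) (Ψ := Ψ') (θ.toNatTrans.vcomp ρ.inv.toNatTrans) (fun a => ?_),
      fun a => rfl⟩
    have h1 : π.toFunctor.map (θ.toNatTrans.app a) = π.toFunctor.map (α.toNatTrans.app a) :=
      (app_congr hθ a :)
    have h2 := hρ a
    have h3 : ρ.hom.toNatTrans.app a ≫ ρ.inv.toNatTrans.app a = 𝟙 _ := (FibC.appIso ρ a).hom_inv_id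
    change π.toFunctor.map (θ.toNatTrans.app a ≫ ρ.inv.toNatTrans.app a) = _
    have : IsIso (π.toFunctor.map (ρ.hom.toNatTrans.app a)) :=
      inferInstanceAs (IsIso (π.toFunctor.map (FibC.appIso ρ a).hom))
    rw [← cancel_mono (π.toFunctor.map (ρ.hom.toNatTrans.app a)), ← Functor.map_comp, Category.assoc,
      show ρ.inv.toNatTrans.app a ≫ ρ.hom.toNatTrans.app a = 𝟙 _ from (FibC.appIso ρ a).inv_hom_id,
      Category.comp_id, h1, h2]
    simp
  obtain ⟨α', hα'⟩ := key α rfl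
  obtain ⟨β', hβ'⟩ := key β hπαβ.symm
  have := hL (BasedFunctor.comp Φ π)
  have h' : α' = β' := by
    apply (Stk.restr (overIncl ι (BasedFunctor.comp Φ π))
      (BasedCategory.ofFunctor π.toFunctor)).map_injective
    apply lifts_ext
    ext x
    change α'.toNatTrans.app (ι.toFunctor.obj x) = β'.toNatTrans.app (ι.toFunctor.obj x)
    have e : α.toNatTrans.app (ι.toFunctor.obj x) = β.toNatTrans.app (ι.toFunctor.obj x) :=
      (app_congr hαβ x :)
    rw [hα', hβ', e]
  apply BasedNatTrans.homCategory.ext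
  refine NatTrans.ext (funext fun a => ?_)
  have h'' := app_congr h' a
  rw [hα', hβ'] at h''
  have : IsIso (ρ.inv.toNatTrans.app a) := inferInstanceAs (IsIso (FibC.appIso ρ a).inv)
  exact (cancel_mono (ρ.inv.toNatTrans.app a)).1 h''

theorem restr_fibrewise_full (hπ : IsoLift π.toFunctor) [(Stk.restr ι W).Full]
    (hL : ∀ G : B ⥤ᵇ W, (Stk.restr (overIncl ι G) (BasedCategory.ofFunctor π.toFunctor)).Full)
    (hW : ∀ {G G' : B ⥤ᵇ W} (δ : G ⟶ G'), IsIso δ) : (Stk.restr ι Z).Full := by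
  constructor
  intro Φ Ψ γ
  obtain ⟨δ, hδ⟩ := (Stk.restr ι W).map_surjective
    (X := BasedFunctor.comp Φ π) (Y := BasedFunctor.comp Ψ π) (BasedCategory.whiskerRight γ π)
  have := hW δ
  obtain ⟨Ψ', ρ, hρ⟩ := exists_liftTransport π hπ Ψ (BasedFunctor.comp Φ π) (asIso δ)
  let γ₀ := γ.toNatTrans ≫ Functor.whiskerLeft ι.toFunctor ρ.inv.toNatTrans
  have := hL (BasedFunctor.comp Φ π)
  let γ' : (Stk.restr (overIncl ι (BasedFunctor.comp Φ π)) (BasedCategory.ofFunctor π.toFunctor)).obj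
      (toLift π Φ) ⟶
      (Stk.restr (overIncl ι (BasedFunctor.comp Φ π)) (BasedCategory.ofFunctor π.toFunctor)).obj Ψ' :=
    lmk γ₀ (fun x => by
      change π.toFunctor.map (γ.toNatTrans.app x ≫ ρ.inv.toNatTrans.app (ι.toFunctor.obj x)) = _
      have : IsIso (π.toFunctor.map (ρ.hom.toNatTrans.app (ι.toFunctor.obj x))) :=
        inferInstanceAs (IsIso (π.toFunctor.map (FibC.appIso ρ (ι.toFunctor.obj x)).hom))
      rw [← cancel_mono (π.toFunctor.map (ρ.hom.toNatTrans.app (ι.toFunctor.obj x))),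
        ← Functor.map_comp, Category.assoc,
        show ρ.inv.toNatTrans.app (ι.toFunctor.obj x) ≫ ρ.hom.toNatTrans.app (ι.toFunctor.obj x) = 𝟙 _
          from (FibC.appIso ρ (ι.toFunctor.obj x)).inv_hom_id]
      erw [Category.comp_id]
      rw [hρ (ι.toFunctor.obj x)]
      have h1 : δ.toNatTrans.app (ι.toFunctor.obj x) = π.toFunctor.map (γ.toNatTrans.app x) :=
        (app_congr hδ x :)
      simp only [asIso_hom, eqToHom_trans_assoc]
      rw [h1]
      exact (Category.id_comp _).symm)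
  obtain ⟨α', hα'⟩ := (Stk.restr (overIncl ι (BasedFunctor.comp Φ π))
    (BasedCategory.ofFunctor π.toFunctor)).map_surjective γ'
  refine ⟨(ofLiftHom π α' : Φ ⟶ ofLift π Ψ') ≫ ρ.hom, BasedNatTrans.homCategory.ext _ _ ?_⟩
  ext x
  change α'.toNatTrans.app (ι.toFunctor.obj x) ≫ ρ.hom.toNatTrans.app (ι.toFunctor.obj x) =
    γ.toNatTrans.app x
  have h1 : α'.toNatTrans.app (ι.toFunctor.obj x) =
      γ.toNatTrans.app x ≫ ρ.inv.toNatTrans.app (ι.toFunctor.obj x) :=
    app_congr hα' x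
  rw [h1, Category.assoc,
    show ρ.inv.toNatTrans.app (ι.toFunctor.obj x) ≫ ρ.hom.toNatTrans.app (ι.toFunctor.obj x) = 𝟙 _
      from (FibC.appIso ρ (ι.toFunctor.obj x)).inv_hom_id]
  exact Category.comp_id _

theorem restr_fibrewise_essSurj (hπ : IsoLift π.toFunctor) [(Stk.restr ι W).EssSurj]
    (hL : ∀ G : B ⥤ᵇ W, (Stk.restr (overIncl ι G) (BasedCategory.ofFunctor π.toFunctor)).EssSurj) :
    (Stk.restr ι Z).EssSurj := by
  constructor
  intro Φ
  let G := (Stk.restr ι W).objPreimage (BasedFunctor.comp Φ π)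
  obtain ⟨Φ', ρ, -⟩ := exists_liftTransport π hπ Φ ((Stk.restr ι W).obj G)
    ((Stk.restr ι W).objObjPreimageIso (BasedFunctor.comp Φ π))
  have := hL G
  let H := (Stk.restr (overIncl ι G) (BasedCategory.ofFunctor π.toFunctor)).objPreimage Φ'
  let e := (Stk.restr (overIncl ι G) (BasedCategory.ofFunctor π.toFunctor)).objObjPreimageIso Φ'
  exact ⟨ofLift π H, ⟨(⟨ofLiftHom π (G := BasedFunctor.comp ι G) e.hom,
    ofLiftHom π (G := BasedFunctor.comp ι G) e.inv,
    BasedNatTrans.homCategory.ext _ _ (NatTrans.ext (funext fun a => (FibC.appIso e a).hom_inv_id)),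
    BasedNatTrans.homCategory.ext _ _ (NatTrans.ext (funext fun a => (FibC.appIso e a).inv_hom_id))⟩ :
      (Stk.restr ι Z).obj (ofLift π H) ≅ ofLift π (G := BasedFunctor.comp ι G) Φ') ≪≫ ρ⟩⟩

theorem isIso_based (hW : FibCat.IsFibGrpd W.p) {G G' : B ⥤ᵇ W} (δ : G ⟶ G') : IsIso δ := by
  have : ∀ a, IsIso (δ.toNatTrans.app a) := fun a => by
    have := δ.isHomLift' a
    exact FibC.isIso_of_fibGrpd hW (𝟙 (B.p.obj a)) (δ.toNatTrans.app a)
  refine ⟨⟨(natIsoMk (fun a => asIso (δ.toNatTrans.app a))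
    (fun f => δ.toNatTrans.naturality f) δ.isHomLift').inv, ?_, ?_⟩⟩
  · apply BasedNatTrans.homCategory.ext
    ext a
    exact IsIso.hom_inv_id (δ.toNatTrans.app a)
  · apply BasedNatTrans.homCategory.ext
    ext a
    exact IsIso.inv_hom_id (δ.toNatTrans.app a)

/-- Restriction to a smaller category is an equivalence if it is one after composing and on all
categories of lifts. -/
theorem restr_fibrewise_isEquivalence (hW : FibCat.IsFibGrpd W.p) (hπ : IsoLift π.toFunctor)
    [(Stk.restr ι W).IsEquivalence]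
    (hL : ∀ G : B ⥤ᵇ W,
      (Stk.restr (overIncl ι G) (BasedCategory.ofFunctor π.toFunctor)).IsEquivalence) :
    (Stk.restr ι Z).IsEquivalence := by
  have := restr_fibrewise_faithful π ι hπ (fun G => have := hL G; inferInstance) (isIso_based hW)
  have := restr_fibrewise_full π ι hπ (fun G => have := hL G; inferInstance) (isIso_based hW)
  have := restr_fibrewise_essSurj π ι hπ (fun G => have := hL G; inferInstance)
  exact { }

/-- Conversely restriction of lifts is an equivalence if both restrictions are. -/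
theorem restr_lifts_of_restr (hπ : IsoLift π.toFunctor) [(Stk.restr ι Z).IsEquivalence]
    [(Stk.restr ι W).Full] [(Stk.restr ι W).Faithful] (G : B ⥤ᵇ W) :
    (Stk.restr (overIncl ι G) (BasedCategory.ofFunctor π.toFunctor)).IsEquivalence := by
  have hf : (Stk.restr (overIncl ι G) (BasedCategory.ofFunctor π.toFunctor)).Faithful := by
    constructor
    intro Φ Ψ α β h
    have : ofLiftHom π α = ofLiftHom π β := by
      apply (Stk.restr ι Z).map_injective
      apply BasedNatTrans.homCategory.ext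
      ext x
      exact (app_congr h x :)
    exact lifts_ext (NatTrans.ext (funext fun a => (app_congr this a :)))
  have hF : (Stk.restr (overIncl ι G) (BasedCategory.ofFunctor π.toFunctor)).Full := by
    constructor
    intro Φ Ψ γ
    obtain ⟨α, hα⟩ := (Stk.restr ι Z).map_surjective (X := ofLift π Φ) (Y := ofLift π Ψ)
      (ofLiftHom π (G := BasedFunctor.comp ι G) γ)
    have hα' : ∀ x, α.toNatTrans.app (ι.toFunctor.obj x) = γ.toNatTrans.app x := fun x =>
      (app_congr hα x :)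
    let η : BasedFunctor.comp (ofLift π Φ) π ⟶ BasedFunctor.comp (ofLift π Ψ) π :=
      BasedCategory.whiskerRight α π
    have e1 : BasedFunctor.comp (ofLift π Φ) π = G := based_ext Φ.w
    have e2 : BasedFunctor.comp (ofLift π Ψ) π = G := based_ext Ψ.w
    have happ : ∀ {G₁ G₂ : B ⥤ᵇ W} (e : G₁ = G₂) (a : B.obj),
        (eqToHom e : G₁ ⟶ G₂).toNatTrans.app a = eqToHom (by rw [e]) := by
      intro G₁ G₂ e a; subst e; rfl
    have key : η = eqToHom (e1.trans e2.symm) := by
      apply (Stk.restr ι W).map_injective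
      apply BasedNatTrans.homCategory.ext
      ext x
      change π.toFunctor.map (α.toNatTrans.app (ι.toFunctor.obj x)) =
        (eqToHom (e1.trans e2.symm) : BasedFunctor.comp (ofLift π Φ) π ⟶
          BasedFunctor.comp (ofLift π Ψ) π).toNatTrans.app (ι.toFunctor.obj x)
      rw [hα', happ]
      exact lifts_map_app γ x
    refine ⟨lmk α.toNatTrans (fun a => ?_), lifts_ext (NatTrans.ext (funext hα'))⟩
    exact (app_congr key a).trans (happ _ a)
  have he : (Stk.restr (overIncl ι G) (BasedCategory.ofFunctor π.toFunctor)).EssSurj := by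
    constructor
    intro Φ
    let Φz : A ⥤ᵇ Z := ofLift π (G := BasedFunctor.comp ι G) Φ
    let Ψ := (Stk.restr ι Z).objPreimage Φz
    let lam : (Stk.restr ι Z).obj Ψ ≅ Φz := (Stk.restr ι Z).objObjPreimageIso Φz
    have e0 : BasedFunctor.comp Φz π = (Stk.restr ι W).obj G := based_ext Φ.w
    let nu : BasedFunctor.comp Ψ π ≅ G :=
      (Stk.restr ι W).preimageIso (StFib.isoWhiskerRight lam π ≪≫ eqToIso e0)
    obtain ⟨H, ρ, hρ⟩ := exists_liftTransport π hπ Ψ G nu.symm
    refine ⟨H, ⟨lmkIso (Functor.isoWhiskerLeft ι.toFunctor ((BasedNatTrans.forgetful B Z).mapIso ρ) ≪≫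
      (BasedNatTrans.forgetful A Z).mapIso lam) (fun x => ?_)⟩⟩
    have happ : ∀ {G₁ G₂ : A ⥤ᵇ W} (e : G₁ = G₂) (a : A.obj),
        (eqToHom e : G₁ ⟶ G₂).toNatTrans.app a = eqToHom (by rw [e]) := by
      intro G₁ G₂ e a; subst e; rfl
    have h1 : nu.hom.toNatTrans.app (ι.toFunctor.obj x) =
        π.toFunctor.map (lam.hom.toNatTrans.app x) ≫ eqToHom _ :=
      (app_congr ((Stk.restr ι W).map_preimage (X := BasedFunctor.comp Ψ π) (Y := G)
        (StFib.isoWhiskerRight lam π ≪≫ eqToIso e0).hom) x :).trans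
        (congrArg (π.toFunctor.map (lam.hom.toNatTrans.app x) ≫ ·) (happ e0 x))
    change π.toFunctor.map (ρ.hom.toNatTrans.app (ι.toFunctor.obj x) ≫ lam.hom.toNatTrans.app x) = _
    rw [Functor.map_comp, hρ (ι.toFunctor.obj x)]
    have h3 : nu.inv.toNatTrans.app (ι.toFunctor.obj x) ≫ nu.hom.toNatTrans.app (ι.toFunctor.obj x) =
        𝟙 _ := (FibC.appIso nu (ι.toFunctor.obj x)).inv_hom_id
    rw [h1] at h3
    simp only [Iso.symm_hom, Category.assoc]
    rw [← Category.assoc, ← cancel_mono (eqToHom (BasedFunctor.w_obj Φ x))]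
    simp only [Category.assoc]
    erw [h3]
    simp
    exact Category.comp_id _
  exact { }

end fibrewise

end Groth.Agent.StkLib
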