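import Groth.Agent.StkLib.Cofinal
import Groth.Agent.StkLib.LiftStack
import Groth.Agent.FibC.Yoneda
import Mathlib.CategoryTheory.Sites.CoverPreserving
import Mathlib.CategoryTheory.Limits.Shapes.Pullback.IsPullback.Basic
import Mathlib.CategoryTheory.Limits.Shapes.Pullback.Categorical.Basic

/-!
The base change of a stack along a cover preserving functor preserving fibre products.
-/

set_option autoImplicit false
set_option backward.isDefEq.respectTransparency false
set_option backward.isDefEq.respectTransparency.types false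

universe v₅ u₅ v₄ u₄ v₃ u₃ v₂ u₂ v u

open CategoryTheory CategoryTheory.Functor CategoryTheory.Limits

namespace Groth.Agent.StkLib

open Groth.Agent.FibC

variable {C : Type u} [Category.{v} C] {D : Type u₂} [Category.{v₂} D] (u : C ⥤ D)
  {𝒮 : BasedCategory.{v₃, u₃} D}

theorem isFibGrpd_π₁ (h : FibCat.IsFibGrpd 𝒮.p) :
    FibCat.IsFibGrpd (CategoricalPullback.π₁ u 𝒮.p) := by
  constructor
  · intro a V f
    obtain ⟨s, φ, hφ⟩ := h.exists_lift (x := a.snd) (u.map f ≫ a.iso.hom)
    have hs := IsHomLift.domain_eq 𝒮.p (u.map f ≫ a.iso.hom) φ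
    let m : (⟨V, s, eqToIso hs.symm⟩ : CategoricalPullback u 𝒮.p) ⟶ a :=
      { fst := f, snd := φ
        w := by
          show u.map f ≫ a.iso.hom = eqToHom hs.symm ≫ 𝒮.p.map φ
          rw [IsHomLift.fac' 𝒮.p (u.map f ≫ a.iso.hom) φ]
          simp }
    exact ⟨_, m, IsHomLift.map (CategoricalPullback.π₁ u 𝒮.p) m⟩
  · intro b a ψ
    exact
      { universal_property' := fun {c} g ψ' hψ' => by
          have hψ'' : (CategoricalPullback.π₁ u 𝒮.p).IsHomLift (g ≫ ψ.fst) ψ' := hψ'
          have e : ψ'.fst = g ≫ ψ.fst :=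
            (IsHomLift.eq_of_isHomLift (CategoricalPullback.π₁ u 𝒮.p) (g ≫ ψ.fst) ψ').symm
          have := h.isStronglyCartesian ψ.snd
          have hw : (c.iso.inv ≫ u.map g ≫ b.iso.hom) ≫ 𝒮.p.map ψ.snd = 𝒮.p.map ψ'.snd := by
            rw [Category.assoc, Category.assoc, ← ψ.w, ← u.map_comp_assoc, ← e, ψ'.w,
              Iso.inv_hom_id_assoc]
          obtain ⟨χ, ⟨hχ, hχ'⟩, huχ⟩ := IsStronglyCartesian.universal_property 𝒮.p
            (𝒮.p.map ψ.snd) ψ.snd (c.iso.inv ≫ u.map g ≫ b.iso.hom) (𝒮.p.map ψ'.snd) hw.symm ψ'.snd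
          let θ : c ⟶ b :=
            { fst := g, snd := χ
              w := by
                rw [← IsHomLift.eq_of_isHomLift 𝒮.p (c.iso.inv ≫ u.map g ≫ b.iso.hom) χ,
                  Iso.hom_inv_id_assoc] }
          refine ⟨θ, ⟨IsHomLift.map (CategoricalPullback.π₁ u 𝒮.p) θ,
            CategoricalPullback.hom_ext e.symm hχ'⟩, ?_⟩
          rintro θ' ⟨h1, h2⟩
          have e1 : θ'.fst = g := (IsHomLift.eq_of_isHomLift (CategoricalPullback.π₁ u 𝒮.p) g θ').symm
          refine CategoricalPullback.hom_ext e1 (huχ _ ⟨?_, congrArg (fun t => t.snd) h2⟩)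
          rw [← e1, θ'.w, Iso.inv_hom_id_assoc]
          infer_instance }

section transpose

variable {A : Type u₄} [Category.{v₄} A] (P : A ⥤ C)

/-- A lift of `P ⋙ u` as a lift of `P` to the pullback. -/
def transpose : Lifts (P ⋙ u) 𝒮.p ⥤ Lifts P (CategoricalPullback.π₁ u 𝒮.p) where
  obj H :=
    { toFunctor :=
        { obj := fun a => ⟨P.obj a, H.toFunctor.obj a, eqToIso (H.w_obj a).symm⟩
          map := fun {a b} k =>
            { fst := P.map k, snd := H.toFunctor.map k
              w := by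
                have e : 𝒮.p.map (H.toFunctor.map k) = _ := Functor.congr_hom H.w k
                rw [e]
                simp [BasedCategory.ofFunctor] }
          map_id := fun a => CategoricalPullback.hom_ext (P.map_id a) (H.toFunctor.map_id a)
          map_comp := fun k l =>
            CategoricalPullback.hom_ext (P.map_comp k l) (H.toFunctor.map_comp k l) }
      w := rfl }
  map {H H'} β := lmk
    { app := fun a =>
        { fst := 𝟙 _, snd := β.toNatTrans.app a
          w := by
            show u.map (𝟙 (P.obj a)) ≫ eqToHom (H'.w_obj a).symm =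
              eqToHom (H.w_obj a).symm ≫ 𝒮.p.map (β.toNatTrans.app a)
            rw [lifts_map_app β a, CategoryTheory.Functor.map_id]
            simp }
      naturality := fun a b k => CategoricalPullback.hom_ext
        ((Category.comp_id (P.map k)).trans (Category.id_comp (P.map k)).symm)
        (β.toNatTrans.naturality k) }
    (fun a => rfl)
  map_id H := lifts_ext (NatTrans.ext (funext fun a => CategoricalPullback.hom_ext rfl rfl))
  map_comp β β' := lifts_ext (NatTrans.ext (funext fun a =>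
    CategoricalPullback.hom_ext (Category.id_comp (𝟙 (P.obj a))).symm rfl))

theorem transpose_isEquivalence (h : IsoLift 𝒮.p) : (transpose (𝒮 := 𝒮) u P).IsEquivalence := by
  have hf : (transpose (𝒮 := 𝒮) u P).Faithful := ⟨fun {H H' α β} e =>
    lifts_ext (NatTrans.ext (funext fun a => congrArg (fun t => t.snd) (app_congr e a :)))⟩
  have hF : (transpose (𝒮 := 𝒮) u P).Full := ⟨fun {H H'} γ => by
    have h1 : ∀ a : A, (γ.toNatTrans.app a).fst = 𝟙 (P.obj a) := fun a => lifts_map_app γ a
    refine ⟨lmk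
      { app := fun a => (γ.toNatTrans.app a).snd
        naturality := fun a b k => congrArg (fun t => t.snd) (γ.toNatTrans.naturality k) }
      (fun a => ?_), lifts_ext (NatTrans.ext (funext fun a =>
        CategoricalPullback.hom_ext (h1 a).symm rfl))⟩
    have e := (γ.toNatTrans.app a).w
    rw [h1 a] at e
    erw [CategoryTheory.Functor.map_id] at e
    change 𝟙 _ ≫ eqToHom (H'.w_obj a).symm =
      eqToHom (H.w_obj a).symm ≫ 𝒮.p.map (γ.toNatTrans.app a).snd at e
    rw [Category.id_comp] at e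
    rw [← cancel_epi (eqToHom (H.w_obj a).symm)]
    exact e.symm.trans (eqToHom_trans _ _).symm⟩
  have he : (transpose (𝒮 := 𝒮) u P).EssSurj := ⟨fun Φ => by
    let σ : P ⋙ u ≅ (Φ.toFunctor ⋙ CategoricalPullback.π₂ u 𝒮.p) ⋙ 𝒮.p :=
      Functor.isoWhiskerRight (eqToIso Φ.w.symm) u ≪≫
        Functor.associator _ _ _ ≪≫
        NatIso.ofComponents (fun a => (Φ.toFunctor.obj a).iso) (fun k => (Φ.toFunctor.map k).w)
    refine ⟨transport h _ σ, ⟨lmkIso (NatIso.ofComponents (fun a =>
      CategoricalPullback.mkIso (eqToIso (Φ.w_obj a).symm) ((transportIso h _ σ).app a) ?_)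
      (fun {a b} k => CategoricalPullback.hom_ext ?_ ((transportIso h _ σ).hom.naturality k)))
      (fun a => rfl)⟩⟩
    · show u.map (eqToHom (Φ.w_obj a).symm) ≫ (Φ.toFunctor.obj a).iso.hom =
        eqToHom ((transport h _ σ).w_obj a).symm ≫ 𝒮.p.map ((transportIso h _ σ).hom.app a)
      rw [transportIso_map]
      simp [σ, eqToHom_map]
    · have e : (Φ.toFunctor.map k).fst = _ := Functor.congr_hom Φ.w k
      show P.map k ≫ eqToHom (Φ.w_obj b).symm =
        eqToHom (Φ.w_obj a).symm ≫ (Φ.toFunctor.map k).fst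
      rw [e]
      simp [BasedCategory.ofFunctor]⟩
  exact { }

end transpose

section covers

variable {U : C} (R : Sieve U)

/-- The slice over `U` mapped to the slice over `u U`. -/
def postSlice : BasedCategory.ofFunctor (Over.forget U ⋙ u) ⥤ᵇ FibCat.overCat (u.obj U) :=
  ⟨Over.post u, rfl⟩

/-- A sieve mapped to its image. -/
def postSieve : BasedCategory.ofFunctor (R.arrows.diagram ⋙ u) ⥤ᵇ
    Stk.sieveCat (R.functorPushforward u) where
  toFunctor :=
    { obj := fun a => ⟨(Over.post u).obj a.obj,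
        ⟨_, a.obj.hom, 𝟙 _, a.property, (Category.id_comp _).symm⟩⟩
      map := fun k => ObjectProperty.homMk ((Over.post u).map k.hom)
      map_id := fun a => ObjectProperty.hom_ext _ ((Over.post u).map_id _)
      map_comp := fun k l => ObjectProperty.hom_ext _ ((Over.post u).map_comp _ _) }
  w := rfl

theorem postSlice_restr_isEquivalence (h : FibCat.IsFibGrpd 𝒮.p) :
    (Stk.restr (postSlice u (U := U)) 𝒮).IsEquivalence := by
  have ext_top : ∀ {Φ Ψ : BasedCategory.ofFunctor (Over.forget U ⋙ u) ⥤ᵇ 𝒮} (α β : Φ ⟶ Ψ),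
      α.toNatTrans.app (overTop U) = β.toNatTrans.app (overTop U) → α = β := fun {Φ Ψ} α β e => by
    apply BasedNatTrans.homCategory.ext
    refine NatTrans.ext (funext fun a => ?_)
    have : 𝒮.p.IsHomLift (𝟙 (u.obj (Over.left a))) (α.toNatTrans.app a) := α.isHomLift' a
    have : 𝒮.p.IsHomLift (𝟙 (u.obj (Over.left a))) (β.toNatTrans.app a) := β.isHomLift' a
    have : 𝒮.p.IsHomLift (u.map (toTop a).left) (Ψ.toFunctor.map (toTop a)) :=
      inferInstanceAs (𝒮.p.IsHomLift
        ((BasedCategory.ofFunctor (Over.forget U ⋙ u)).p.map (toTop a)) _)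
    have := sc_of_fibGrpd h (u.map (toTop a).left) (Ψ.toFunctor.map (toTop a))
      (R := u.obj (Over.left a)) (S := u.obj (Over.left (overTop U)))
    apply IsStronglyCartesian.ext 𝒮.p (u.map (toTop a).left) (Ψ.toFunctor.map (toTop a))
      (𝟙 (u.obj (Over.left a)))
    rw [← α.toNatTrans.naturality, ← β.toNatTrans.naturality, e]
  have ext_exists : ∀ (Φ Ψ : BasedCategory.ofFunctor (Over.forget U ⋙ u) ⥤ᵇ 𝒮)
      (θ : Φ.toFunctor.obj (overTop U) ⟶ Ψ.toFunctor.obj (overTop U)),
      𝒮.p.IsHomLift (𝟙 (u.obj U)) θ → ∃ α : Φ ⟶ Ψ, α.toNatTrans.app (overTop U) = θ := by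
    intro Φ Ψ θ hθ
    have hθ' : 𝒮.p.IsHomLift (𝟙 (u.obj (Over.left (overTop U)))) θ := hθ
    have hex : ∀ a : Over U, ∃ c : Φ.toFunctor.obj a ⟶ Ψ.toFunctor.obj a,
        𝒮.p.IsHomLift (𝟙 (u.obj a.left)) c ∧
          c ≫ Ψ.toFunctor.map (toTop a) = Φ.toFunctor.map (toTop a) ≫ θ := fun a => by
      have : 𝒮.p.IsHomLift (u.map (toTop a).left) (Φ.toFunctor.map (toTop a)) :=
        inferInstanceAs (𝒮.p.IsHomLift
          ((BasedCategory.ofFunctor (Over.forget U ⋙ u)).p.map (toTop a)) _)
      have : 𝒮.p.IsHomLift (u.map (toTop a).left) (Ψ.toFunctor.map (toTop a)) :=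
        inferInstanceAs (𝒮.p.IsHomLift
          ((BasedCategory.ofFunctor (Over.forget U ⋙ u)).p.map (toTop a)) _)
      have := sc_of_fibGrpd h (u.map (toTop a).left) (Ψ.toFunctor.map (toTop a))
      have hl : 𝒮.p.IsHomLift (u.map (toTop a).left) (Φ.toFunctor.map (toTop a) ≫ θ) := by
        exact IsHomLift.comp_lift_id_right' 𝒮.p _ _ (u.obj (Over.left (overTop U))) θ
      obtain ⟨χ, hχ, -⟩ := IsStronglyCartesian.universal_property 𝒮.p (u.map (toTop a).left)
        (Ψ.toFunctor.map (toTop a)) (𝟙 (u.obj a.left)) _ (Category.id_comp _).symm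
        (Φ.toFunctor.map (toTop a) ≫ θ)
      exact ⟨χ, hχ⟩
    choose c hc hc' using hex
    refine ⟨{ toNatTrans := { app := c, naturality := fun a b k => ?_ }, isHomLift' := hc }, ?_⟩
    · have := hc a
      have := hc b
      have hk : 𝒮.p.IsHomLift (u.map k.left) (Φ.toFunctor.map k) :=
        inferInstanceAs (𝒮.p.IsHomLift ((BasedCategory.ofFunctor (Over.forget U ⋙ u)).p.map k) _)
      have hk' : 𝒮.p.IsHomLift (u.map k.left) (Ψ.toFunctor.map k) :=
        inferInstanceAs (𝒮.p.IsHomLift ((BasedCategory.ofFunctor (Over.forget U ⋙ u)).p.map k) _)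
      have : 𝒮.p.IsHomLift (u.map (toTop b).left) (Ψ.toFunctor.map (toTop b)) :=
        inferInstanceAs (𝒮.p.IsHomLift
          ((BasedCategory.ofFunctor (Over.forget U ⋙ u)).p.map (toTop b)) _)
      have := sc_of_fibGrpd h (u.map (toTop b).left) (Ψ.toFunctor.map (toTop b))
      have h1 : 𝒮.p.IsHomLift (u.map k.left) (Φ.toFunctor.map k ≫ c b) := inferInstance
      have h2 : 𝒮.p.IsHomLift (u.map k.left) (c a ≫ Ψ.toFunctor.map k) := inferInstance
      apply IsStronglyCartesian.ext 𝒮.p (u.map (toTop b).left) (Ψ.toFunctor.map (toTop b))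
        (u.map k.left)
      have ht : k ≫ toTop b = toTop a := Over.OverMorphism.ext (Over.w k)
      rw [Category.assoc, hc', Category.assoc, ← Ψ.toFunctor.map_comp, ht, hc', ← Category.assoc,
        ← Φ.toFunctor.map_comp, ht]
    · have e : toTop (overTop U) = 𝟙 _ := Over.OverMorphism.ext rfl
      have := hc' (overTop U)
      rw [e] at this
      erw [Φ.toFunctor.map_id, Ψ.toFunctor.map_id, Category.comp_id, Category.id_comp] at this
      exact this
  let j : (postSlice u (U := U)).toFunctor.obj (overTop U) ≅ overTop (u.obj U) :=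
    Over.isoMk (Iso.refl _) (by
      show 𝟙 (u.obj U) ≫ 𝟙 (u.obj U) = u.map (𝟙 U)
      simp)
  have hf : (Stk.restr (postSlice u (U := U)) 𝒮).Faithful := ⟨fun {Φ Ψ α β} e => by
    have ej : α.toNatTrans.app ((postSlice u (U := U)).toFunctor.obj (overTop U)) =
        β.toNatTrans.app ((postSlice u (U := U)).toFunctor.obj (overTop U)) := app_congr e (overTop U)
    apply yoneda_injective (preserves_overCat h Ψ)
    rw [← cancel_epi (Φ.toFunctor.map j.hom), α.toNatTrans.naturality, β.toNatTrans.naturality, ej]⟩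
  have hF : (Stk.restr (postSlice u (U := U)) 𝒮).Full := ⟨fun {Φ Ψ} γ => by
    have hj : 𝒮.p.IsHomLift (𝟙 (u.obj U)) (Φ.toFunctor.map j.inv) :=
      map_lift Φ j.inv
    have hj' : 𝒮.p.IsHomLift (𝟙 (u.obj U)) (Ψ.toFunctor.map j.hom) :=
      map_lift Ψ j.hom
    have hγ : 𝒮.p.IsHomLift (𝟙 (u.obj U)) (γ.toNatTrans.app (overTop U)) := γ.isHomLift' (overTop U)
    let θ := Φ.toFunctor.map j.inv ≫ γ.toNatTrans.app (overTop U) ≫ Ψ.toFunctor.map j.hom
    have : 𝒮.p.IsHomLift (𝟙 (u.obj U)) θ := inferInstance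
    obtain ⟨α, hα⟩ := yoneda_surjective (preserves_overCat h Ψ) θ
    refine ⟨α, ext_top _ _ ?_⟩
    have n := α.toNatTrans.naturality j.hom
    rw [hα] at n
    have e1 : Φ.toFunctor.map j.hom ≫ θ = γ.toNatTrans.app (overTop U) ≫ Ψ.toFunctor.map j.hom := by
      have : Φ.toFunctor.map j.hom ≫ Φ.toFunctor.map j.inv = 𝟙 _ := by
        rw [← Φ.toFunctor.map_comp, j.hom_inv_id, CategoryTheory.Functor.map_id]
      show Φ.toFunctor.map j.hom ≫ Φ.toFunctor.map j.inv ≫ _ = _
      rw [reassoc_of% this]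
    exact (cancel_mono (Ψ.toFunctor.map j.hom)).1 (n.symm.trans e1)⟩
  have he : (Stk.restr (postSlice u (U := U)) 𝒮).EssSurj := ⟨fun Φ => by
    obtain ⟨H, e, he⟩ := exists_overLift_fibGrpd h (Φ.toFunctor.obj (overTop U))
      (Φ.w_obj (overTop U) : 𝒮.p.obj _ = u.obj U)
    have hj : 𝒮.p.IsHomLift (𝟙 (u.obj U)) (H.toFunctor.map j.hom) := map_lift H j.hom
    let i : ((Stk.restr (postSlice u (U := U)) 𝒮).obj H).toFunctor.obj (overTop U) ≅
        Φ.toFunctor.obj (overTop U) := H.toFunctor.mapIso j ≪≫ e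
    have hi : 𝒮.p.IsHomLift (𝟙 (u.obj U)) i.hom := by
      show 𝒮.p.IsHomLift (𝟙 (u.obj U)) (H.toFunctor.map j.hom ≫ e.hom)
      have : 𝒮.p.IsHomLift (𝟙 (u.obj U)) e.hom := he
      exact IsHomLift.comp_lift_id_right' 𝒮.p (𝟙 (u.obj U)) _ (u.obj U) e.hom
    obtain ⟨α, hα⟩ := ext_exists _ _ i.hom hi
    obtain ⟨β, hβ⟩ := ext_exists _ _ i.inv inferInstance
    refine ⟨H, ⟨⟨α, β, ext_top _ _ ?_, ext_top _ _ ?_⟩⟩⟩
    · show α.toNatTrans.app _ ≫ β.toNatTrans.app _ = 𝟙 _
      rw [hα, hβ, i.hom_inv_id]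
    · show β.toNatTrans.app _ ≫ α.toNatTrans.app _ = 𝟙 _
      rw [hα, hβ, i.inv_hom_id]⟩
  exact { }

theorem postSieve_cofinal [HasPullbacks C] [PreservesLimitsOfShape WalkingCospan u] :
    IsCofinal (postSieve u R) where
  exists_arrow s := by
    obtain ⟨Z, g, h, hg, e⟩ := s.property
    exact ⟨⟨Over.mk g, hg⟩, ⟨ObjectProperty.homMk (Over.homMk h e.symm)⟩⟩
  cone {s a b} h h' := by
    have hp := (IsPullback.of_hasPullback a.obj.hom b.obj.hom).map u
    have hw : h.hom.left ≫ u.map a.obj.hom = h'.hom.left ≫ u.map b.obj.hom :=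
      (Over.w h.hom).trans (Over.w h'.hom).symm
    let c : (BasedCategory.ofFunctor (R.arrows.diagram ⋙ u)).obj :=
      ⟨Over.mk (pullback.fst a.obj.hom b.obj.hom ≫ a.obj.hom), R.downward_closed a.property _⟩
    refine ⟨c, ObjectProperty.homMk (Over.homMk (hp.lift h.hom.left h'.hom.left hw) ?_),
      ObjectProperty.homMk (Over.homMk (pullback.fst a.obj.hom b.obj.hom) rfl),
      ObjectProperty.homMk (Over.homMk (pullback.snd a.obj.hom b.obj.hom) pullback.condition.symm),
      ObjectProperty.hom_ext _ (Over.OverMorphism.ext (hp.lift_fst _ _ _)),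
      ObjectProperty.hom_ext _ (Over.OverMorphism.ext (hp.lift_snd _ _ _))⟩
    show hp.lift h.hom.left h'.hom.left hw ≫
      u.map (pullback.fst a.obj.hom b.obj.hom ≫ a.obj.hom) = s.obj.hom
    rw [u.map_comp, hp.lift_fst_assoc]
    exact Over.w h.hom
  graph {s a b} m m' h e := by
    have hw : m.hom.left ≫ b.obj.hom = m'.hom.left ≫ b.obj.hom :=
      (Over.w m.hom).trans (Over.w m'.hom).symm
    have hP := IsPullback.of_hasPullback b.obj.hom b.obj.hom
    have hp := hP.map u
    let c : (BasedCategory.ofFunctor (R.arrows.diagram ⋙ u)).obj :=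
      ⟨Over.mk (pullback.fst b.obj.hom b.obj.hom ≫ b.obj.hom), R.downward_closed b.property _⟩
    refine ⟨c, ObjectProperty.homMk (Over.homMk (pullback.lift m.hom.left m'.hom.left hw) ?_),
      ObjectProperty.homMk (Over.homMk (pullback.lift (𝟙 _) (𝟙 _) rfl) ?_),
      ObjectProperty.homMk (Over.homMk (pullback.fst b.obj.hom b.obj.hom) rfl),
      ObjectProperty.homMk (Over.homMk (pullback.snd b.obj.hom b.obj.hom) pullback.condition.symm),
      ObjectProperty.hom_ext _ (Over.OverMorphism.ext (pullback.lift_fst _ _ _)),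
      ObjectProperty.hom_ext _ (Over.OverMorphism.ext (pullback.lift_snd _ _ _)),
      ObjectProperty.hom_ext _ (Over.OverMorphism.ext (pullback.lift_fst _ _ _)),
      ObjectProperty.hom_ext _ (Over.OverMorphism.ext (pullback.lift_snd _ _ _)), ?_⟩
    · show pullback.lift m.hom.left m'.hom.left hw ≫
        pullback.fst b.obj.hom b.obj.hom ≫ b.obj.hom = a.obj.hom
      rw [pullback.lift_fst_assoc]
      exact Over.w m.hom
    · show pullback.lift (𝟙 _) (𝟙 _) rfl ≫ pullback.fst b.obj.hom b.obj.hom ≫ b.obj.hom = b.obj.hom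
      rw [pullback.lift_fst_assoc, Category.id_comp]
    · refine ObjectProperty.hom_ext _ (Over.OverMorphism.ext (hp.hom_ext ?_ ?_))
      · show (h.hom.left ≫ u.map (pullback.lift m.hom.left m'.hom.left hw)) ≫ u.map (pullback.fst _ _) =
          (h.hom.left ≫ u.map m.hom.left ≫ u.map (pullback.lift (𝟙 _) (𝟙 _) rfl)) ≫
            u.map (pullback.fst _ _)
        rw [Category.assoc, Category.assoc, Category.assoc, ← u.map_comp, ← u.map_comp,
          pullback.lift_fst, pullback.lift_fst, u.map_id, Category.comp_id]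
      · show (h.hom.left ≫ u.map (pullback.lift m.hom.left m'.hom.left hw)) ≫ u.map (pullback.snd _ _) =
          (h.hom.left ≫ u.map m.hom.left ≫ u.map (pullback.lift (𝟙 _) (𝟙 _) rfl)) ≫
            u.map (pullback.snd _ _)
        have e' : h.hom.left ≫ u.map m.hom.left = h.hom.left ≫ u.map m'.hom.left :=
          congrArg (fun t => t.hom.left) e
        rw [Category.assoc, Category.assoc, Category.assoc, ← u.map_comp, ← u.map_comp,
          pullback.lift_snd, pullback.lift_snd, u.map_id, Category.comp_id]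
        exact e'.symm

theorem isStack_baseChange [HasPullbacks C] [PreservesLimitsOfShape WalkingCospan u]
    (J : GrothendieckTopology C) (K : GrothendieckTopology D) (hu : CoverPreserving J K u)
    (h𝒮 : Stk.IsStack K 𝒮) :
    Stk.IsStack J (BasedCategory.ofFunctor (CategoricalPullback.π₁ u 𝒮.p)) := by
  refine ⟨isFibGrpd_π₁ u h𝒮.1, fun U R hR => ?_⟩
  have hS : (Stk.restr (Stk.sieveIncl (R.functorPushforward u)) 𝒮).IsEquivalence :=
    h𝒮.2 _ (hu.cover_preserve hR)
  let ι : BasedCategory.ofFunctor (R.arrows.diagram ⋙ u) ⥤ᵇ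
      BasedCategory.ofFunctor (Over.forget U ⋙ u) := ⟨(Stk.sieveIncl R).toFunctor, rfl⟩
  have h1 := postSlice_restr_isEquivalence (𝒮 := 𝒮) u (U := U) h𝒮.1
  have h2 := restr_cofinal_isEquivalence (X := 𝒮) (postSieve_cofinal u R) h𝒮.1
  let e : Stk.restr (postSlice u) 𝒮 ⋙ Stk.restr ι 𝒮 ≅
      Stk.restr (Stk.sieveIncl (R.functorPushforward u)) 𝒮 ⋙ Stk.restr (postSieve u R) 𝒮 :=
    NatIso.ofComponents (fun _ => Iso.refl _) (fun {_ _} α => by
      apply BasedNatTrans.homCategory.ext; ext a
      exact (Category.comp_id _).trans (Category.id_comp _).symm)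
  have := Functor.isEquivalence_of_iso e.symm
  have h3 : (Stk.restr ι (BasedCategory.ofFunctor 𝒮.p)).IsEquivalence :=
    Functor.isEquivalence_of_comp_left (Stk.restr (postSlice u) 𝒮) (Stk.restr ι 𝒮)
  have hq := isoLift_of_fibGrpd h𝒮.1
  have h4 := transpose_isEquivalence (𝒮 := 𝒮) u (Over.forget U) hq
  have h5 := transpose_isEquivalence (𝒮 := 𝒮) u R.arrows.diagram hq
  let e' : Stk.restr ι (BasedCategory.ofFunctor 𝒮.p) ⋙ transpose u R.arrows.diagram ≅
      transpose u (Over.forget U) ⋙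
        Stk.restr (Stk.sieveIncl R) (BasedCategory.ofFunctor (CategoricalPullback.π₁ u 𝒮.p)) :=
    NatIso.ofComponents (fun _ => Iso.refl _) (fun {_ _} α => by
      apply lifts_ext; ext a
      exact (Category.comp_id _).trans (Category.id_comp _).symm)
  have := Functor.isEquivalence_of_iso e'
  exact Functor.isEquivalence_of_comp_left (transpose u (Over.forget U)) _

end covers

end Groth.Agent.StkLib
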