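import Groth.Agent.StkLib.Slice
import Groth.Agent.FibC.Fp

/-!
A category over a stack whose pullbacks to all slices are stacks is a stack.
-/

set_option autoImplicit false
set_option backward.isDefEq.respectTransparency false
set_option backward.isDefEq.respectTransparency.types false

universe v₅ u₅ v₄ u₄ v₃ u₃ v₂ u₂ v u

open CategoryTheory CategoryTheory.Functor

namespace Groth.Agent.StkLib

open Groth.Agent.FibC

variable {C : Type u} [Category.{v} C] {𝒯 : BasedCategory.{v₂, u₂} C} {𝒮 : BasedCategory.{v₃, u₃} C}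
  (F : 𝒮 ⥤ᵇ 𝒯)

theorem fpSnd_id_isEquivOver : FibCat.IsEquivOver (FibCat.fpSnd (BasedFunctor.id 𝒯) F) := by
  have : (FibCat.fpSnd (BasedFunctor.id 𝒯) F).toFunctor.Full := ⟨fun {a b} g =>
    ⟨ObjectProperty.homMk
      { fst := a.obj.iso.hom ≫ F.toFunctor.map g ≫ b.obj.iso.inv
        snd := g
        w := by
          show (a.obj.iso.hom ≫ F.toFunctor.map g ≫ b.obj.iso.inv) ≫ b.obj.iso.hom = _
          simp only [Category.assoc, Iso.inv_hom_id]
          exact congrArg _ (Category.comp_id _) }, rfl⟩⟩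
  have : (FibCat.fpSnd (BasedFunctor.id 𝒯) F).toFunctor.Faithful := ⟨fun {a b φ ψ} h => by
    have h' : φ.hom.snd = ψ.hom.snd := h
    refine fp_hom_ext ?_ h'
    have h1 : φ.hom.fst ≫ b.obj.iso.hom = a.obj.iso.hom ≫ F.toFunctor.map φ.hom.snd := φ.hom.w
    have h2 : ψ.hom.fst ≫ b.obj.iso.hom = a.obj.iso.hom ≫ F.toFunctor.map ψ.hom.snd := ψ.hom.w
    rw [← cancel_mono b.obj.iso.hom]
    exact h1.trans (by rw [h']; exact h2.symm)⟩
  refine isEquivOver_of_fullyFaithful _ (fun s => ?_)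
  exact ⟨⟨{ fst := F.toFunctor.obj s, snd := s, iso := Iso.refl _ }, IsHomLift.id rfl⟩, Iso.refl _,
    IsHomLift.id rfl⟩

theorem isoLift_fpFst_id (h𝒮 : FibCat.IsFibGrpd 𝒮.p) :
    IsoLift (FibCat.fpFst (BasedFunctor.id 𝒯) F).toFunctor := by
  intro y t' j
  let j' : t' ≅ y.obj.fst := j
  have hy : 𝒮.p.obj y.obj.snd = 𝒯.p.obj y.obj.fst := fp_snd_proj y
  obtain ⟨s', φ, hφ⟩ := exists_lift' h𝒮 hy (𝒯.p.map j'.hom)
  have : IsIso φ := isIso_of_fibGrpd h𝒮 (𝒯.p.map j'.hom) φ
  let i' : (BasedFunctor.id 𝒯).toFunctor.obj t' ≅ F.toFunctor.obj s' :=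
    j' ≪≫ y.obj.iso ≪≫ (F.toFunctor.mapIso (asIso φ)).symm
  have hi : 𝒯.p.IsHomLift (𝟙 (𝒯.p.obj t')) i'.hom := by
    have h1 : 𝒯.p.IsHomLift (𝟙 (𝒯.p.obj y.obj.fst)) y.obj.iso.hom := y.property
    have h2 : 𝒯.p.IsHomLift (𝒯.p.map j'.hom) (F.toFunctor.mapIso (asIso φ)).hom :=
      inferInstanceAs (𝒯.p.IsHomLift (𝒯.p.map j'.hom) (F.toFunctor.map φ))
    have h3 : 𝒯.p.IsHomLift (inv (𝒯.p.map j'.hom)) (F.toFunctor.mapIso (asIso φ)).inv := by
      show 𝒯.p.IsHomLift (inv (𝒯.p.map j'.hom)) (F.toFunctor.map (inv φ))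
      have : 𝒮.p.IsHomLift (inv (𝒯.p.map j'.hom)) (inv φ) := IsHomLift.inv 𝒮.p (𝒯.p.map j'.hom) φ
      infer_instance
    have h5 : 𝒯.p.IsHomLift (𝟙 (𝒯.p.obj y.obj.fst) ≫ inv (𝒯.p.map j'.hom))
        (y.obj.iso.hom ≫ (F.toFunctor.mapIso (asIso φ)).inv) :=
      IsHomLift.comp 𝒯.p (𝟙 (𝒯.p.obj y.obj.fst)) (inv (𝒯.p.map j'.hom)) _ _
    rw [Category.id_comp] at h5
    have h6 : 𝒯.p.IsHomLift (𝒯.p.map j'.hom ≫ inv (𝒯.p.map j'.hom))
        (j'.hom ≫ y.obj.iso.hom ≫ (F.toFunctor.mapIso (asIso φ)).inv) := inferInstance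
    rw [IsIso.hom_inv_id] at h6
    exact h6
  let y' : (FibCat.fp (BasedFunctor.id 𝒯) F).obj := ⟨{ fst := t', snd := s', iso := i' }, hi⟩
  refine ⟨y', fpIsoMk (x := y') (y := y) j' (asIso φ) ?_, IsHomLift.of_fac' _ _ _ rfl rfl
    ((Category.comp_id _).symm.trans (Category.id_comp _).symm)⟩
  show j'.hom ≫ y.obj.iso.hom = (j'.hom ≫ y.obj.iso.hom ≫ F.toFunctor.map (inv φ)) ≫ F.toFunctor.map φ
  simp

variable {F} {U : C} {G : FibCat.overCat U ⥤ᵇ 𝒯}

/-- The functor between the two fibre products. -/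
def pullMap : (FibCat.fp G F).obj ⥤ (FibCat.fp (BasedFunctor.id 𝒯) F).obj where
  obj a := ⟨{ fst := G.toFunctor.obj a.obj.fst, snd := a.obj.snd, iso := a.obj.iso }, by
    have h : 𝒯.p.IsHomLift (𝟙 ((FibCat.overCat U).p.obj a.obj.fst)) a.obj.iso.hom := a.property
    show 𝒯.p.IsHomLift (𝟙 (𝒯.p.obj (G.toFunctor.obj a.obj.fst))) a.obj.iso.hom
    rwa [G.w_obj]⟩
  map k := ObjectProperty.homMk
    { fst := G.toFunctor.map k.hom.fst, snd := k.hom.snd, w := k.hom.w }
  map_id a := fp_hom_ext (G.toFunctor.map_id _) rfl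
  map_comp k l := fp_hom_ext (G.toFunctor.map_comp _ _) rfl

variable {A : Type u₄} [Category.{v₄} A] (P : A ⥤ Over U)

/-- Lifts to the pullback give lifts to the total fibre product. -/
def pullLifts : Lifts P (FibCat.fpFst G F).toFunctor ⥤
    Lifts (P ⋙ G.toFunctor) (FibCat.fpFst (BasedFunctor.id 𝒯) F).toFunctor where
  obj Φ := ⟨Φ.toFunctor ⋙ pullMap,
    show (Φ.toFunctor ⋙ (FibCat.fpFst G F).toFunctor) ⋙ G.toFunctor = P ⋙ G.toFunctor from
      congrArg (· ⋙ G.toFunctor) Φ.w⟩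
  map {Φ Ψ} α := lmk (Functor.whiskerRight α.toNatTrans pullMap) (fun a => by
    change G.toFunctor.map ((FibCat.fpFst G F).toFunctor.map (α.toNatTrans.app a)) = _
    rw [lifts_map_app α a]
    exact eqToHom_map _ _)
  map_id Φ := lifts_ext (by ext a; exact pullMap.map_id _)
  map_comp α β := lifts_ext (by ext a; exact pullMap.map_comp _ _)

theorem pullLifts_isEquivalence : (pullLifts (F := F) (G := G) P).IsEquivalence := by
  have hf : (pullLifts (F := F) (G := G) P).Faithful := ⟨fun {Φ Ψ α β} h => by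
    apply lifts_ext
    refine NatTrans.ext (funext fun a => fp_hom_ext ?_ ?_)
    · exact ((lifts_map_app α a).trans (lifts_map_app β a).symm :)
    · exact congrArg (fun t => t.hom.snd) (app_congr h a :)⟩
  have hF : (pullLifts (F := F) (G := G) P).Full := ⟨fun {Φ Ψ} γ => by
    have hobj : ∀ a, (Φ.toFunctor.obj a).obj.fst = (Ψ.toFunctor.obj a).obj.fst := fun a =>
      (Φ.w_obj a).trans (Ψ.w_obj a).symm
    have hγ : ∀ a, (γ.toNatTrans.app a).hom.fst = eqToHom (congrArg G.toFunctor.obj (hobj a)) :=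
      fun a => lifts_map_app γ a
    let α : Φ.toFunctor ⟶ Ψ.toFunctor :=
      { app := fun a => ObjectProperty.homMk
          { fst := eqToHom (hobj a)
            snd := (γ.toNatTrans.app a).hom.snd
            w := by
              rw [eqToHom_map, ← hγ]
              exact (γ.toNatTrans.app a).hom.w }
        naturality := fun a b k => fp_hom_ext (by
          show (Φ.toFunctor.map k).hom.fst ≫ eqToHom (hobj b) =
            eqToHom (hobj a) ≫ (Ψ.toFunctor.map k).hom.fst
          have h1 : (Φ.toFunctor.map k).hom.fst = _ := Functor.congr_hom Φ.w k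
          have h2 : (Ψ.toFunctor.map k).hom.fst = _ := Functor.congr_hom Ψ.w k
          rw [h1, h2]
          simp)
          (congrArg (fun t => t.hom.snd) (γ.toNatTrans.naturality k)) }
    refine ⟨lmk α (fun a => rfl), lifts_ext (NatTrans.ext (funext fun a => fp_hom_ext ?_ rfl))⟩
    show G.toFunctor.map (eqToHom (hobj a)) = _
    rw [hγ a, eqToHom_map]⟩
  have he : (pullLifts (F := F) (G := G) P).EssSurj := ⟨fun H => by
    have hh : ∀ a, (H.toFunctor.obj a).obj.fst = G.toFunctor.obj (P.obj a) := fun a => H.w_obj a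
    have hm : ∀ {a b : A} (k : a ⟶ b), (H.toFunctor.map k).hom.fst =
        eqToHom (hh a) ≫ G.toFunctor.map (P.map k) ≫ eqToHom (hh b).symm := fun k =>
      Functor.congr_hom H.w k
    let Φ₀ : A ⥤ (FibCat.fp G F).obj :=
      { obj := fun a => ⟨{ fst := P.obj a, snd := (H.toFunctor.obj a).obj.snd,
                           iso := eqToIso (hh a).symm ≪≫ (H.toFunctor.obj a).obj.iso }, by
            have h0 : 𝒯.p.IsHomLift (𝟙 (𝒯.p.obj (H.toFunctor.obj a).obj.fst))
              (H.toFunctor.obj a).obj.iso.hom := (H.toFunctor.obj a).property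
            rw [(congrArg 𝒯.p.obj (hh a)).trans (G.w_obj _)] at h0
            show 𝒯.p.IsHomLift (𝟙 ((FibCat.overCat U).p.obj (P.obj a)))
              (eqToHom (hh a).symm ≫ (H.toFunctor.obj a).obj.iso.hom)
            infer_instance⟩
        map := fun {a b} k => ObjectProperty.homMk
          { fst := P.map k, snd := (H.toFunctor.map k).hom.snd
            w := by
              have h := (H.toFunctor.map k).hom.w
              change (H.toFunctor.map k).hom.fst ≫ _ = _ at h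
              rw [hm k] at h
              show G.toFunctor.map (P.map k) ≫ eqToHom (hh b).symm ≫ (H.toFunctor.obj b).obj.iso.hom =
                (eqToHom (hh a).symm ≫ (H.toFunctor.obj a).obj.iso.hom) ≫ _
              rw [Category.assoc, ← h]
              simp }
        map_id := fun a => fp_hom_ext (P.map_id a) (by
          show (H.toFunctor.map (𝟙 a)).hom.snd = 𝟙 _
          erw [H.toFunctor.map_id]; rfl)
        map_comp := fun k l => fp_hom_ext (P.map_comp k l) (by
          show (H.toFunctor.map (k ≫ l)).hom.snd = _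
          erw [H.toFunctor.map_comp]; rfl) }
    let Φ : Lifts P (FibCat.fpFst G F).toFunctor := ⟨Φ₀, rfl⟩
    refine ⟨Φ, ⟨lmkIso (NatIso.ofComponents
      (fun a => fpIsoMk (eqToIso (hh a).symm) (Iso.refl _) ?_) (fun {a b} k => fp_hom_ext ?_ ?_))
      (fun a => rfl)⟩⟩
    · show eqToHom (hh a).symm ≫ (H.toFunctor.obj a).obj.iso.hom =
        (eqToHom (hh a).symm ≫ (H.toFunctor.obj a).obj.iso.hom) ≫ F.toFunctor.map (𝟙 _)
      rw [CategoryTheory.Functor.map_id]
      exact (Category.comp_id _).symm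
    · show G.toFunctor.map (P.map k) ≫ eqToHom (hh b).symm =
        eqToHom (hh a).symm ≫ (H.toFunctor.map k).hom.fst
      rw [hm k]
      simp
    · show (H.toFunctor.map k).hom.snd ≫ 𝟙 _ = 𝟙 _ ≫ (H.toFunctor.map k).hom.snd
      exact (Category.comp_id _).trans (Category.id_comp _).symm⟩
  exact { }

theorem restr_pull_iff {A₀ : Type u₅} [Category.{v₅} A₀] {P₀ : A₀ ⥤ Over U}
    (ι : BasedCategory.ofFunctor P₀ ⥤ᵇ BasedCategory.ofFunctor P)
    (ι' : BasedCategory.ofFunctor (P₀ ⋙ G.toFunctor) ⥤ᵇ BasedCategory.ofFunctor (P ⋙ G.toFunctor))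
    (hι : ι'.toFunctor = ι.toFunctor) :
    (Stk.restr ι (BasedCategory.ofFunctor (FibCat.fpFst G F).toFunctor)).IsEquivalence ↔
      (Stk.restr ι' (BasedCategory.ofFunctor
        (FibCat.fpFst (BasedFunctor.id 𝒯) F).toFunctor)).IsEquivalence := by
  obtain ⟨ι'₀, hw⟩ := ι'
  subst hι
  have h1 := pullLifts_isEquivalence (F := F) (G := G) P
  have h2 := pullLifts_isEquivalence (F := F) (G := G) P₀
  let e : Stk.restr ι _ ⋙ pullLifts (F := F) (G := G) P₀ ≅
      pullLifts P ⋙ Stk.restr (⟨ι.toFunctor, hw⟩ : BasedCategory.ofFunctor (P₀ ⋙ G.toFunctor) ⥤ᵇ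
        BasedCategory.ofFunctor (P ⋙ G.toFunctor)) _ :=
    NatIso.ofComponents (fun _ => Iso.refl _) (fun {_ _} α => by
      apply lifts_ext; ext a
      exact (Category.comp_id _).trans (Category.id_comp _).symm)
  constructor
  · intro h
    have := Functor.isEquivalence_of_iso e
    exact Functor.isEquivalence_of_comp_left (pullLifts P) _
  · intro h
    have := Functor.isEquivalence_of_iso e.symm
    exact Functor.isEquivalence_of_comp_right _ (pullLifts (F := F) (G := G) P₀)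

theorem isStack_of_isStack_pullbacks (J : GrothendieckTopology C) (h𝒮 : FibCat.IsFibGrpd 𝒮.p)
    (h𝒯 : Stk.IsStack J 𝒯) (F : 𝒮 ⥤ᵇ 𝒯)
    (h3 : ∀ (U : C) (y : FibCat.overCat U ⥤ᵇ 𝒯), Stk.IsStack (J.over U)
      (BasedCategory.ofFunctor ((FibCat.fpFst y F).toFunctor : (FibCat.fp y F).obj ⥤ Over U))) :
    Stk.IsStack J 𝒮 := by
  refine ⟨h𝒮, fun U R hR => (restr_isEquivalence_iff (Stk.sieveIncl R) (fpSnd_id_isEquivOver F)).1 ?_⟩
  have : (Stk.restr (Stk.sieveIncl R) 𝒯).IsEquivalence := h𝒯.2 R hR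
  refine restr_fibrewise_isEquivalence (FibCat.fpFst (BasedFunctor.id 𝒯) F) (Stk.sieveIncl R) h𝒯.1
    (isoLift_fpFst_id F h𝒮) (fun G => ?_)
  let T : Over U := overTop U
  let R' : Sieve T := (Sieve.overEquiv T).symm R
  have h4 := (h3 U G).2 R' (J.overEquiv_symm_mem_over T R hR)
  have hd : (Over.forget T).IsEquivalence :=
    { faithful := ⟨fun {a b k l} h => Over.OverMorphism.ext h⟩
      full := ⟨fun {a b} g => ⟨Over.homMk g (Over.OverMorphism.ext (by
        show g.left ≫ b.hom.left = a.hom.left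
        have hb : b.hom.left = b.left.hom := (Category.comp_id _).symm.trans (Over.w b.hom)
        have ha : a.hom.left = a.left.hom := (Category.comp_id _).symm.trans (Over.w a.hom)
        rw [hb, ha]
        exact Over.w g)), rfl⟩⟩
      essSurj := ⟨fun a => ⟨Over.mk (toTop a), ⟨Iso.refl _⟩⟩⟩ }
  let d₀ : (Stk.sieveCat R').obj ⥤ (Stk.sieveCat R).obj :=
    { obj := fun b => ⟨b.obj.left, by
        have h : R b.obj.hom.left := b.property
        have e : b.obj.hom.left = b.obj.left.hom := (Category.comp_id _).symm.trans (Over.w b.obj.hom)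
        show R b.obj.left.hom
        rw [← e]; exact h⟩
      map := fun k => ObjectProperty.homMk k.hom.left }
  have hd₀ : d₀.IsEquivalence :=
    { faithful := ⟨fun {a b k l} h => ObjectProperty.hom_ext _
        (Over.OverMorphism.ext (congrArg (fun t => t.hom) h))⟩
      full := ⟨fun {a b} g => by
        obtain ⟨k, hk⟩ := (Over.forget T).map_surjective (X := a.obj) (Y := b.obj) g.hom
        exact ⟨ObjectProperty.homMk k, ObjectProperty.hom_ext _ hk⟩⟩
      essSurj := ⟨fun a => ⟨⟨Over.mk (toTop a.obj), (a.property : R a.obj.hom)⟩, ⟨Iso.refl _⟩⟩⟩ }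
  let ι' : BasedCategory.ofFunctor (R'.arrows.diagram ⋙ G.toFunctor) ⥤ᵇ
      BasedCategory.ofFunctor (Over.forget T ⋙ G.toFunctor) :=
    ⟨(Stk.sieveIncl R').toFunctor, rfl⟩
  have h5 := (restr_pull_iff (F := F) (G := G) (Over.forget T) (Stk.sieveIncl R') ι' rfl).1 h4
  exact (restr_lifts_iff (isoLift_fpFst_id F h𝒮) (overIncl (Stk.sieveIncl R) G) ι'
    (Over.forget T) (Iso.refl _) d₀ (NatIso.ofComponents (fun b => Iso.refl _) (fun k => by
      erw [Category.comp_id, Category.id_comp]; rfl))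
    (NatIso.ofComponents (fun b => Iso.refl _) (fun k => by
      erw [Category.comp_id, Category.id_comp]; rfl))
    (fun b => by
      show 𝟙 _ = 𝟙 _ ≫ 𝟙 _ ≫ G.toFunctor.map (𝟙 _) ≫ 𝟙 _
      rw [CategoryTheory.Functor.map_id]
      simp)).2 h5

end Groth.Agent.StkLib
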