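import Groth.Prelude.Def_W4stkalgstUpp
import Groth.Prelude.Def_FibCat2
import Groth.Agent.FibC.Basic
import Mathlib.CategoryTheory.Localization.CalculusOfFractions
import Mathlib.CategoryTheory.Limits.Preserves.Basic
import Mathlib.CategoryTheory.Limits.Shapes.Pullback.IsPullback.Basic
import Mathlib.CategoryTheory.Limits.Shapes.Equalizers
import Mathlib.CategoryTheory.FinCategory.Basic
import Mathlib.CategoryTheory.Limits.Preserves.Shapes.Equalizers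

/-!
Right calculus of fractions on `Stk.upp` and the fibred category `Stk.up`.
-/

set_option autoImplicit false
set_option backward.isDefEq.respectTransparency false
set_option backward.isDefEq.respectTransparency.types false

universe v₃ u₃ v₂ u₂ v u

open CategoryTheory CategoryTheory.Functor CategoryTheory.Limits

namespace Groth.Agent.StkLib

open Groth.Agent.FibC

theorem sc_map_of_sc {E : Type u₂} [Category.{v₂} E] {X : Type u₃} [Category.{v₃} X] {p : X ⥤ E}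
    {R S : E} {a b : X} (f : R ⟶ S) (φ : a ⟶ b) [hφ : p.IsStronglyCartesian f φ] :
    p.IsStronglyCartesian (p.map φ) φ := by
  subst_hom_lift p f φ
  exact hφ

variable {C : Type u} [Category.{v} C] {D : Type u₂} [Category.{v₂} D] (u : C ⥤ D)
  (𝒮 : BasedCategory.{v₃, u₃} C) [𝒮.p.IsFibered]

/-- The limits used by the calculus of fractions. -/
structure UpHyp : Prop where
  hC : ∀ (I : Type) [SmallCategory I] [FinCategory I], Nonempty I → HasLimitsOfShape I C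
  hu : ∀ (I : Type) [SmallCategory I] [FinCategory I], Nonempty I → PreservesLimitsOfShape I u

variable {u}

omit [𝒮.p.IsFibered] in
theorem uppR_comp {a b c : Stk.UppObj u 𝒮} (f : a ⟶ b) (g : b ⟶ c) (hf : Stk.uppR u 𝒮 f)
    (hg : Stk.uppR u 𝒮 g) : Stk.uppR u 𝒮 (f ≫ g) := by
  obtain ⟨hf1, hf2⟩ := hf
  obtain ⟨hg1, hg2⟩ := hg
  refine ⟨?_, ?_⟩
  · rw [Stk.UppObj.comp_top, Functor.map_comp]
    infer_instance
  · rw [Stk.UppObj.comp_bot]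
    infer_instance

omit [𝒮.p.IsFibered] in
theorem uppR_multiplicative : (Stk.uppR u 𝒮).IsMultiplicative where
  id_mem a := by
    refine ⟨?_, ?_⟩
    · rw [Stk.UppObj.id_top]; infer_instance
    · rw [Stk.UppObj.id_bot]; infer_instance
  comp_mem f g hf hg := uppR_comp 𝒮 f g hf hg

theorem uppR_calculus (h : UpHyp u) : (Stk.uppR u 𝒮).HasRightCalculusOfFractions := by
  have : HasLimitsOfShape WalkingCospan C := h.hC WalkingCospan ⟨WalkingCospan.one⟩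
  have : HasPullbacks C := this
  have : PreservesLimitsOfShape WalkingCospan u := h.hu WalkingCospan ⟨WalkingCospan.one⟩
  have : HasLimitsOfShape WalkingParallelPair C := h.hC WalkingParallelPair ⟨WalkingParallelPair.zero⟩
  have : HasEqualizers C := this
  have : PreservesLimitsOfShape WalkingParallelPair u :=
    h.hu WalkingParallelPair ⟨WalkingParallelPair.zero⟩
  have hm := uppR_multiplicative (u := u) 𝒮
  constructor
  · rintro a b φ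
    obtain ⟨hs1, hs2⟩ := φ.hs
    have hp := (IsPullback.of_hasPullback (𝒮.p.map φ.f.top) (𝒮.p.map φ.s.top)).map u
    have hw : a.φ ≫ u.map (𝒮.p.map φ.f.top) =
        (φ.f.bot ≫ inv φ.s.bot ≫ b.φ) ≫ u.map (𝒮.p.map φ.s.top) := by
      rw [φ.f.w, Category.assoc, Category.assoc, φ.s.w, IsIso.inv_hom_id_assoc]
    obtain ⟨x', χ, hχ⟩ := exists_sc_lift (p := 𝒮.p) (x := a.x) rfl
      (pullback.fst (𝒮.p.map φ.f.top) (𝒮.p.map φ.s.top))
    have hx' := IsHomLift.domain_eq 𝒮.p (pullback.fst (𝒮.p.map φ.f.top) (𝒮.p.map φ.s.top)) χ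
    let a' : Stk.UppObj u 𝒮 :=
      ⟨x', a.V, hp.lift a.φ (φ.f.bot ≫ inv φ.s.bot ≫ b.φ) hw ≫ u.map (eqToHom hx'.symm)⟩
    have hχp : 𝒮.p.map χ = eqToHom hx' ≫ pullback.fst (𝒮.p.map φ.f.top) (𝒮.p.map φ.s.top) := by
      rw [IsHomLift.fac' 𝒮.p (pullback.fst (𝒮.p.map φ.f.top) (𝒮.p.map φ.s.top)) χ]
      simp
    let t : a' ⟶ a := ⟨χ, 𝟙 _, by
      show (_ ≫ _) ≫ u.map (𝒮.p.map χ) = 𝟙 _ ≫ a.φ
      rw [hχp, Category.assoc, ← u.map_comp, eqToHom_trans_assoc, eqToHom_refl, Category.id_comp,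
        hp.lift_fst, Category.id_comp]⟩
    have hcomp : 𝒮.p.map (χ ≫ φ.f.top) =
        (eqToHom hx' ≫ pullback.snd (𝒮.p.map φ.f.top) (𝒮.p.map φ.s.top)) ≫ 𝒮.p.map φ.s.top := by
      rw [Functor.map_comp, hχp, Category.assoc, Category.assoc, pullback.condition]
    obtain ⟨θ, ⟨hθ, hθ'⟩, -⟩ := IsStronglyCartesian.universal_property 𝒮.p (𝒮.p.map φ.s.top) φ.s.top
      (eqToHom hx' ≫ pullback.snd (𝒮.p.map φ.f.top) (𝒮.p.map φ.s.top)) (𝒮.p.map (χ ≫ φ.f.top)) hcomp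
      (χ ≫ φ.f.top)
    let f' : a' ⟶ b := ⟨θ, φ.f.bot ≫ inv φ.s.bot, by
      show (_ ≫ _) ≫ u.map (𝒮.p.map θ) = _
      rw [← IsHomLift.eq_of_isHomLift 𝒮.p
          (eqToHom hx' ≫ pullback.snd (𝒮.p.map φ.f.top) (𝒮.p.map φ.s.top)) θ,
        Category.assoc, ← u.map_comp, eqToHom_trans_assoc, eqToHom_refl, Category.id_comp,
        hp.lift_snd, Category.assoc]⟩
    refine ⟨⟨t, ⟨?_, inferInstanceAs (IsIso (𝟙 a.V))⟩, f'⟩, Stk.UppObj.hom_ext hθ'.symm ?_⟩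
    · show 𝒮.p.IsStronglyCartesian (𝒮.p.map χ) χ
      exact sc_map_of_sc (pullback.fst (𝒮.p.map φ.f.top) (𝒮.p.map φ.s.top)) χ
    · show 𝟙 a.V ≫ φ.f.bot = (φ.f.bot ≫ inv φ.s.bot) ≫ φ.s.bot
      simp
  · rintro a b b' f₁ f₂ s ⟨hs1, hs2⟩ e
    have ebot : f₁.bot = f₂.bot := (cancel_mono s.bot).1 (congrArg Stk.UppObj.Hom.bot e :)
    have etop : f₁.top ≫ s.top = f₂.top ≫ s.top := congrArg Stk.UppObj.Hom.top e
    have hw : a.φ ≫ u.map (𝒮.p.map f₁.top) = a.φ ≫ u.map (𝒮.p.map f₂.top) := by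
      rw [f₁.w, f₂.w, ebot]
    obtain ⟨x', χ, hχ⟩ := exists_sc_lift (p := 𝒮.p) (x := a.x) rfl
      (equalizer.ι (𝒮.p.map f₁.top) (𝒮.p.map f₂.top))
    have hx' := IsHomLift.domain_eq 𝒮.p (equalizer.ι (𝒮.p.map f₁.top) (𝒮.p.map f₂.top)) χ
    have hlim := isLimitForkMapOfIsLimit u (equalizer.condition _ _)
      (equalizerIsEqualizer (𝒮.p.map f₁.top) (𝒮.p.map f₂.top))
    let l := Fork.IsLimit.lift hlim a.φ hw
    have hl : l ≫ u.map (equalizer.ι (𝒮.p.map f₁.top) (𝒮.p.map f₂.top)) = a.φ :=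
      Fork.IsLimit.lift_ι' hlim a.φ hw
    have hχp : 𝒮.p.map χ = eqToHom hx' ≫ equalizer.ι (𝒮.p.map f₁.top) (𝒮.p.map f₂.top) := by
      rw [IsHomLift.fac' 𝒮.p (equalizer.ι (𝒮.p.map f₁.top) (𝒮.p.map f₂.top)) χ]
      simp
    refine ⟨⟨x', a.V, l ≫ u.map (eqToHom hx'.symm)⟩, ⟨χ, 𝟙 _, ?_⟩, ⟨?_, ?_⟩,
      Stk.UppObj.hom_ext ?_ ?_⟩
    · show (_ ≫ _) ≫ u.map (𝒮.p.map χ) = 𝟙 _ ≫ a.φ
      rw [hχp, Category.assoc, ← u.map_comp, eqToHom_trans_assoc, eqToHom_refl, Category.id_comp,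
        hl, Category.id_comp]
    · show 𝒮.p.IsStronglyCartesian (𝒮.p.map χ) χ
      exact sc_map_of_sc (equalizer.ι (𝒮.p.map f₁.top) (𝒮.p.map f₂.top)) χ
    · exact inferInstanceAs (IsIso (𝟙 a.V))
    · show χ ≫ f₁.top = χ ≫ f₂.top
      have ep : 𝒮.p.map (χ ≫ f₁.top) = 𝒮.p.map (χ ≫ f₂.top) := by
        rw [Functor.map_comp, Functor.map_comp, hχp, Category.assoc, Category.assoc,
          equalizer.condition]
      have : 𝒮.p.IsHomLift (𝒮.p.map (χ ≫ f₁.top)) (χ ≫ f₂.top) := by rw [ep]; infer_instance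
      apply IsStronglyCartesian.ext 𝒮.p (𝒮.p.map s.top) s.top (𝒮.p.map (χ ≫ f₁.top))
      rw [Category.assoc, etop, ← Category.assoc]
    · show 𝟙 a.V ≫ f₁.bot = 𝟙 a.V ≫ f₂.bot
      rw [ebot]

variable (h : UpHyp u)

/-- The localisation functor, as a functor between the underlying categories. -/
abbrev upQ : Stk.UppObj u 𝒮 ⥤ (Stk.uppR u 𝒮).Localization := (Stk.uppR u 𝒮).Q

omit [𝒮.p.IsFibered] in
theorem up_map_Q {X Y : Stk.UppObj u 𝒮} (f : X ⟶ Y) :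
    (Stk.up u 𝒮).p.map ((upQ 𝒮).map f) = f.bot := by
  have e := Functor.congr_hom (Localization.Construction.fac (Stk.UppObj.forget u 𝒮)
    (Stk.uppR_isInvertedBy u 𝒮)) f
  rw [eqToHom_refl, eqToHom_refl] at e
  refine (e.trans ?_ :)
  exact (Category.id_comp _).trans (Category.comp_id _)

/-- An object of `u_pp 𝒮` in the localised category. -/
abbrev upObj (a : Stk.UppObj u 𝒮) : (Stk.up u 𝒮).obj := (upQ 𝒮).obj a

omit [𝒮.p.IsFibered] in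
theorem up_surjective (X : (Stk.up u 𝒮).obj) : ∃ a : Stk.UppObj u 𝒮, (upQ 𝒮).obj a = X :=
  (Localization.Construction.objEquiv (Stk.uppR u 𝒮)).surjective X

include h in
/-- Every morphism is a fraction; its base is determined by the fraction. -/
theorem up_fraction {a b : Stk.UppObj u 𝒮} (g : a.V ⟶ b.V)
    (ψ : upObj 𝒮 a ⟶ upObj 𝒮 b) [(Stk.up u 𝒮).p.IsHomLift g ψ] :
    ∃ (a' : Stk.UppObj u 𝒮) (t : a' ⟶ a) (f : a' ⟶ b), Stk.uppR u 𝒮 t ∧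
      (upQ 𝒮).map t ≫ ψ = (upQ 𝒮).map f ∧ f.bot = t.bot ≫ g := by
  have := uppR_calculus 𝒮 h
  obtain ⟨φ, e⟩ := Localization.exists_rightFraction (upQ 𝒮) (Stk.uppR u 𝒮) ψ
  have e' : (upQ 𝒮).map φ.s ≫ ψ = (upQ 𝒮).map φ.f := by
    rw [e]; exact φ.map_s_comp_map _ _
  refine ⟨φ.X', φ.s, φ.f, φ.hs, e', ?_⟩
  have hg : g = (Stk.up u 𝒮).p.map (X := (upQ 𝒮).obj a) (Y := (upQ 𝒮).obj b) ψ :=
    IsHomLift.eq_of_isHomLift (Stk.up u 𝒮).p (a := upObj 𝒮 a) (b := upObj 𝒮 b) g ψ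
  have := congrArg (fun m => (Stk.up u 𝒮).p.map (X := (upQ 𝒮).obj φ.X') (Y := (upQ 𝒮).obj b) m) e'
  rw [up_map_Q] at this
  erw [Functor.map_comp, up_map_Q, ← hg] at this
  exact this.symm

include h in
theorem up_baseMap_cartesian {V : D} (b : Stk.UppObj u 𝒮) (g : V ⟶ b.V) :
    (Stk.up u 𝒮).p.IsStronglyCartesian g
      ((upQ 𝒮).map (⟨𝟙 b.x, g, by simp⟩ : (⟨b.x, V, g ≫ b.φ⟩ : Stk.UppObj u 𝒮) ⟶ b)) := by
  have := uppR_calculus 𝒮 h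
  let l : (⟨b.x, V, g ≫ b.φ⟩ : Stk.UppObj u 𝒮) ⟶ b := ⟨𝟙 b.x, g, by simp⟩
  have hl : (Stk.up u 𝒮).p.IsHomLift g ((upQ 𝒮).map l) :=
    IsHomLift.of_fac' _ _ _ rfl rfl (by
      erw [up_map_Q, Category.comp_id, Category.id_comp])
  refine { toIsHomLift := hl, universal_property' := fun {Z} k ψ hψ => ?_ }
  obtain ⟨z, rfl⟩ := up_surjective 𝒮 Z
  have : (Stk.up u 𝒮).p.IsHomLift (k ≫ g) ψ := hψ
  obtain ⟨z', t, f, ht, e, eb⟩ := up_fraction 𝒮 h (a := z) (b := b) (k ≫ g) ψ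
  obtain ⟨ht1, ht2⟩ := ht
  let f' : z' ⟶ ⟨b.x, V, g ≫ b.φ⟩ := ⟨f.top, t.bot ≫ k, by
    show z'.φ ≫ u.map (𝒮.p.map f.top) = (t.bot ≫ k) ≫ g ≫ b.φ
    rw [f.w, eb]
    simp⟩
  have : IsIso ((upQ 𝒮).map t) := Localization.inverts (upQ 𝒮) (Stk.uppR u 𝒮) t ⟨ht1, ht2⟩
  have hfl : f' ≫ l = f := Stk.UppObj.hom_ext (Category.comp_id _) (by
    show (t.bot ≫ k) ≫ g = f.bot
    rw [eb, Category.assoc])
  refine ⟨inv ((upQ 𝒮).map t) ≫ (upQ 𝒮).map f', ⟨?_, ?_⟩, ?_⟩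
  · refine IsHomLift.of_fac' _ _ _ rfl rfl ?_
    erw [Category.comp_id, Category.id_comp, Functor.map_comp, Functor.map_inv]
    rw [IsIso.inv_comp_eq]
    erw [up_map_Q, up_map_Q]
  · show (inv ((upQ 𝒮).map t) ≫ (upQ 𝒮).map f') ≫ (upQ 𝒮).map l = _
    rw [Category.assoc, ← Functor.map_comp, hfl, IsIso.inv_comp_eq, e]
  · rintro χ ⟨hχ, hχ'⟩
    obtain ⟨z₁, t₁, f₁, ht₁, e₁, eb₁⟩ := up_fraction 𝒮 h (a := z) (b := ⟨b.x, V, g ≫ b.φ⟩) k χ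
    obtain ⟨z₂, t₂, t₂', htt⟩ : ∃ (z₂ : Stk.UppObj u 𝒮) (t₂ : z₂ ⟶ z₁) (t₂' : z₂ ⟶ z'),
        Stk.uppR u 𝒮 t₂ ∧ t₂ ≫ t₁ = t₂' ≫ t := by
      obtain ⟨ψ', hψ'⟩ := (⟨t₁, t, ⟨ht1, ht2⟩⟩ :
        (Stk.uppR u 𝒮).LeftFraction z₁ z').exists_rightFraction
      exact ⟨ψ'.X', ψ'.s, ψ'.f, ψ'.hs, hψ'⟩
    obtain ⟨ht₂, htt⟩ := htt
    have key : (upQ 𝒮).map ((t₂ ≫ f₁) ≫ l) = (upQ 𝒮).map ((t₂' ≫ f') ≫ l) := by
      have hq : χ ≫ (upQ 𝒮).map l = ψ := hχ'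
      rw [Functor.map_comp, Functor.map_comp (upQ 𝒮) t₂, ← e₁, Category.assoc, Category.assoc, hq,
        ← Category.assoc, ← Functor.map_comp, htt, Functor.map_comp, Category.assoc, e,
        ← Functor.map_comp, Category.assoc, hfl]
    obtain ⟨w, r, hr, er⟩ :=
      (MorphismProperty.map_eq_iff_precomp (upQ 𝒮) (Stk.uppR u 𝒮) _ _).1 key
    have hb : (r ≫ t₂ ≫ f₁).bot = (r ≫ t₂' ≫ f').bot := by
      have hb' := congrArg (fun m => m.bot) htt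
      simp only [Stk.UppObj.comp_bot] at hb' ⊢
      rw [eb₁, reassoc_of% hb']
    have hf : r ≫ t₂ ≫ f₁ = r ≫ t₂' ≫ f' := Stk.UppObj.hom_ext (by
      have := congrArg (fun m => m.top) er
      simpa [l] using this) hb
    have hQ : (upQ 𝒮).map (t₂ ≫ f₁) = (upQ 𝒮).map (t₂' ≫ f') :=
      (MorphismProperty.map_eq_iff_precomp (upQ 𝒮) (Stk.uppR u 𝒮) _ _).2 ⟨w, r, hr, hf⟩
    rw [Functor.map_comp, Functor.map_comp, ← e₁, ← Category.assoc, ← Functor.map_comp, htt,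
      Functor.map_comp, Category.assoc] at hQ
    have : IsIso ((upQ 𝒮).map t₂) := Localization.inverts (upQ 𝒮) (Stk.uppR u 𝒮) t₂ ht₂
    have : IsIso ((upQ 𝒮).map t₁) := Localization.inverts (upQ 𝒮) (Stk.uppR u 𝒮) t₁ ht₁
    have : IsIso ((upQ 𝒮).map t₂') := by
      have e3 : (upQ 𝒮).map t₂' = ((upQ 𝒮).map t₂ ≫ (upQ 𝒮).map t₁) ≫ inv ((upQ 𝒮).map t) := by
        rw [IsIso.eq_comp_inv, ← Functor.map_comp, ← Functor.map_comp, htt]
      rw [e3]; infer_instance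
    rw [IsIso.eq_inv_comp]
    exact (cancel_epi ((upQ 𝒮).map t₂')).1 hQ

include h in
theorem up_isFibered : (Stk.up u 𝒮).p.IsFibered := by
  refine IsFibered.of_exists_isStronglyCartesian (fun X R f => ?_)
  obtain ⟨b, rfl⟩ := up_surjective 𝒮 X
  exact ⟨_, _, up_baseMap_cartesian 𝒮 h b f⟩

include h in
theorem up_isFibGrpd (hg : FibCat.IsFibGrpd 𝒮.p) : FibCat.IsFibGrpd (Stk.up u 𝒮).p := by
  have := uppR_calculus 𝒮 h
  constructor
  · intro X R f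
    obtain ⟨b, rfl⟩ := up_surjective 𝒮 X
    exact ⟨_, _, (up_baseMap_cartesian 𝒮 h b f).toIsHomLift⟩
  · intro Y X ψ
    obtain ⟨a, rfl⟩ := up_surjective 𝒮 Y
    obtain ⟨b, rfl⟩ := up_surjective 𝒮 X
    let g : a.V ⟶ b.V := (Stk.up u 𝒮).p.map ψ
    let L : upObj 𝒮 (⟨b.x, a.V, g ≫ b.φ⟩ : Stk.UppObj u 𝒮) ⟶ upObj 𝒮 b :=
      (upQ 𝒮).map (⟨𝟙 b.x, g, by simp⟩ : (⟨b.x, a.V, g ≫ b.φ⟩ : Stk.UppObj u 𝒮) ⟶ b)
    have hl : (Stk.up u 𝒮).p.IsStronglyCartesian g L := up_baseMap_cartesian 𝒮 h b g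
    have hψ : (Stk.up u 𝒮).p.IsHomLift g ψ := IsHomLift.map (Stk.up u 𝒮).p ψ
    obtain ⟨χ, ⟨hχ, hχ'⟩, -⟩ := IsStronglyCartesian.universal_property (Stk.up u 𝒮).p
      g L (𝟙 a.V) g (Category.id_comp g).symm ψ
    obtain ⟨z', t, f, ht, e, eb⟩ := up_fraction 𝒮 h (a := a) (b := ⟨b.x, a.V, g ≫ b.φ⟩) (𝟙 a.V) χ
    have hf : Stk.uppR u 𝒮 f := by
      obtain ⟨-, ht2⟩ := ht
      refine ⟨hg.isStronglyCartesian f.top, ?_⟩
      rw [eb]
      infer_instance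
    have : IsIso ((upQ 𝒮).map t) := Localization.inverts (upQ 𝒮) (Stk.uppR u 𝒮) t ht
    have : IsIso ((upQ 𝒮).map f) := Localization.inverts (upQ 𝒮) (Stk.uppR u 𝒮) f hf
    have hiso : IsIso χ := by
      have : χ = inv ((upQ 𝒮).map t) ≫ (upQ 𝒮).map f := by rw [IsIso.eq_inv_comp]; exact e
      rw [this]; infer_instance
    have : (Stk.up u 𝒮).p.IsStronglyCartesian (𝟙 a.V) χ := IsStronglyCartesian.of_isIso _ _ _
    have hh := IsStronglyCartesian.comp (Stk.up u 𝒮).p (f := 𝟙 a.V) (g := g) (φ := χ) (ψ := L)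
    rw [Category.id_comp] at hh
    erw [hχ'] at hh
    exact hh

end Groth.Agent.StkLib
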