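import Groth.Agent.StkLib.Glue

/-!
Refinement of covering sieves.
-/

set_option autoImplicit false
set_option backward.isDefEq.respectTransparency false
set_option backward.isDefEq.respectTransparency.types false

universe v₃ u₃ v u

open CategoryTheory CategoryTheory.Functor

namespace Groth.Agent.StkLib

open Groth.Agent.FibC

variable {C : Type u} [Category.{v} C] {𝒳 : BasedCategory.{v₃, u₃} C} {U : C} {S R : Sieve U}

/-- Inclusion of a smaller sieve. -/
def sieveLE (hSR : S ≤ R) : Stk.sieveCat S ⥤ᵇ Stk.sieveCat R where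
  toFunctor :=
    { obj := fun a => ⟨a.obj, hSR _ a.property⟩
      map := fun m => ObjectProperty.homMk m.hom }
  w := rfl

/-- The slice over the source of an arrow of a sieve. -/
def sieveAt (a : (Stk.sieveCat R).obj) : FibCat.overCat a.obj.left ⥤ᵇ Stk.sieveCat R where
  toFunctor :=
    { obj := fun b => ⟨Over.mk (b.hom ≫ a.obj.hom), R.downward_closed a.property b.hom⟩
      map := fun {b b'} m => ObjectProperty.homMk (Over.homMk m.left (by
        show m.left ≫ b'.hom ≫ a.obj.hom = b.hom ≫ a.obj.hom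
        rw [← Category.assoc, Over.w])) }
  w := rfl

/-- The pullback of a sieve mapped to it. -/
def sieveAtPull (a : (Stk.sieveCat R).obj) :
    Stk.sieveCat (S.pullback a.obj.hom) ⥤ᵇ Stk.sieveCat S where
  toFunctor :=
    { obj := fun b => ⟨Over.mk (b.obj.hom ≫ a.obj.hom), b.property⟩
      map := fun {b b'} m => ObjectProperty.homMk (Over.homMk m.hom.left (by
        show m.hom.left ≫ b'.obj.hom ≫ a.obj.hom = b.obj.hom ≫ a.obj.hom
        rw [← Category.assoc, Over.w])) }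
  w := rfl

/-- `θ` is compatible with a morphism given on the smaller sieve. -/
def Compat (hSR : S ≤ R) {Φ Ψ : Stk.sieveCat R ⥤ᵇ 𝒳}
    (γ : BasedFunctor.comp (sieveLE hSR) Φ ⟶ BasedFunctor.comp (sieveLE hSR) Ψ)
    (a : (Stk.sieveCat R).obj) (θ : Φ.toFunctor.obj a ⟶ Ψ.toFunctor.obj a) : Prop :=
  ∀ (s : (Stk.sieveCat S).obj) (m : (sieveLE hSR).toFunctor.obj s ⟶ a),
    Φ.toFunctor.map m ≫ θ = γ.toNatTrans.app s ≫ Ψ.toFunctor.map m

variable (hg : FibCat.IsFibGrpd 𝒳.p) (hSR : S ≤ R)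
  (hR : ∀ ⦃V : C⦄ (f : V ⟶ U), R f → Stk.IsPrestackFor (S.pullback f) 𝒳)

theorem sieve_map_lift {T : Sieve U} (Φ : Stk.sieveCat T ⥤ᵇ 𝒳) {a b : (Stk.sieveCat T).obj} (m : a ⟶ b) :
    𝒳.p.IsHomLift m.hom.left (Φ.toFunctor.map m) :=
  inferInstanceAs (𝒳.p.IsHomLift ((Stk.sieveCat T).p.map m) (Φ.toFunctor.map m))

include hg hR in
theorem compat_unique {Φ Ψ : Stk.sieveCat R ⥤ᵇ 𝒳}
    (γ : BasedFunctor.comp (sieveLE hSR) Φ ⟶ BasedFunctor.comp (sieveLE hSR) Ψ)
    (a : (Stk.sieveCat R).obj) (θ θ' : Φ.toFunctor.obj a ⟶ Ψ.toFunctor.obj a)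
    [𝒳.p.IsHomLift (𝟙 a.obj.left) θ] [𝒳.p.IsHomLift (𝟙 a.obj.left) θ']
    (h : Compat hSR γ a θ) (h' : Compat hSR γ a θ') : θ = θ' := by
  refine hom_ext_for hg (hR _ a.property).2 θ θ' (fun V f hf z ν hν => ?_)
  let s : (Stk.sieveCat S).obj := ⟨Over.mk (f ≫ a.obj.hom), hf⟩
  let m : (sieveLE hSR).toFunctor.obj s ⟶ a := ObjectProperty.homMk (Over.homMk f rfl)
  have : 𝒳.p.IsHomLift f (Φ.toFunctor.map m) := sieve_map_lift Φ m
  obtain ⟨e, -, he⟩ := lift_iso hg f ν (Φ.toFunctor.map m)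
  rw [← he, Category.assoc, Category.assoc, h s m, h' s m]

include hg hR in
theorem exists_compat {Φ Ψ : Stk.sieveCat R ⥤ᵇ 𝒳}
    (γ : BasedFunctor.comp (sieveLE hSR) Φ ⟶ BasedFunctor.comp (sieveLE hSR) Ψ)
    (a : (Stk.sieveCat R).obj) :
    ∃ θ, 𝒳.p.IsHomLift (𝟙 a.obj.left) θ ∧ Compat hSR γ a θ := by
  obtain ⟨_, _⟩ := hR _ a.property
  let γ' : (Stk.resSieve (S.pullback a.obj.hom) 𝒳).obj (BasedFunctor.comp (sieveAt a) Φ) ⟶
      (Stk.resSieve (S.pullback a.obj.hom) 𝒳).obj (BasedFunctor.comp (sieveAt a) Ψ) :=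
    BasedCategory.whiskerLeft (sieveAtPull (S := S) a) γ
  obtain ⟨α, hα⟩ := (Stk.resSieve (S.pullback a.obj.hom) 𝒳).map_surjective γ'
  let j : (sieveAt a).toFunctor.obj (overTop a.obj.left) ⟶ a :=
    ObjectProperty.homMk (Over.homMk (𝟙 _) rfl)
  have hjΦ : 𝒳.p.IsHomLift (𝟙 a.obj.left) (Φ.toFunctor.map j) := sieve_map_lift Φ j
  have hjΨ : 𝒳.p.IsHomLift (𝟙 a.obj.left) (Ψ.toFunctor.map j) := sieve_map_lift Ψ j
  have : IsIso (Φ.toFunctor.map j) := isIso_of_fibGrpd hg (𝟙 a.obj.left) _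
  let θ₀ : Φ.toFunctor.obj ((sieveAt a).toFunctor.obj (overTop a.obj.left)) ⟶
      Ψ.toFunctor.obj ((sieveAt a).toFunctor.obj (overTop a.obj.left)) :=
    α.toNatTrans.app (overTop a.obj.left)
  have hθ₀ : 𝒳.p.IsHomLift (𝟙 a.obj.left) θ₀ := BasedNatTrans.app_isHomLift α (overTop a.obj.left)
  refine ⟨inv (Φ.toFunctor.map j) ≫ θ₀ ≫ Ψ.toFunctor.map j, inferInstance, fun s m => ?_⟩
  have hm : S (m.hom.left ≫ a.obj.hom) := by
    rw [Over.w m.hom]; exact s.property
  let b : (Stk.sieveCat (S.pullback a.obj.hom)).obj := ⟨Over.mk m.hom.left, hm⟩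
  let s' : (Stk.sieveCat S).obj := (sieveAtPull (S := S) a).toFunctor.obj b
  let t : s' ⟶ s := ObjectProperty.homMk (Over.homMk (𝟙 _) (by
    show 𝟙 _ ≫ s.obj.hom = m.hom.left ≫ a.obj.hom
    rw [Category.id_comp, Over.w m.hom]; rfl))
  have htΦ : 𝒳.p.IsHomLift (𝟙 s.obj.left) (Φ.toFunctor.map ((sieveLE hSR).toFunctor.map t)) :=
    sieve_map_lift Φ ((sieveLE hSR).toFunctor.map t)
  have : IsIso (Φ.toFunctor.map ((sieveLE hSR).toFunctor.map t)) := isIso_of_fibGrpd hg (𝟙 s.obj.left) _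
  have e : (sieveLE hSR).toFunctor.map t ≫ m = (sieveAt a).toFunctor.map (toTop b.obj) ≫ j :=
    ObjectProperty.hom_ext _ (Over.OverMorphism.ext
      ((Category.id_comp m.hom.left).trans (Category.comp_id m.hom.left).symm))
  have hb : α.toNatTrans.app b.obj = γ.toNatTrans.app s' :=
    congrArg (fun t => BasedNatTrans.toNatTrans t |>.app b) hα
  have n1 : Φ.toFunctor.map ((sieveAt a).toFunctor.map (toTop b.obj)) ≫ θ₀ =
      α.toNatTrans.app b.obj ≫ Ψ.toFunctor.map ((sieveAt a).toFunctor.map (toTop b.obj)) :=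
    α.toNatTrans.naturality (toTop b.obj)
  have n2 : Φ.toFunctor.map ((sieveLE hSR).toFunctor.map t) ≫ γ.toNatTrans.app s =
      γ.toNatTrans.app s' ≫ Ψ.toFunctor.map ((sieveLE hSR).toFunctor.map t) :=
    γ.toNatTrans.naturality t
  rw [← cancel_epi (Φ.toFunctor.map ((sieveLE hSR).toFunctor.map t)), ← Category.assoc,
    ← Φ.toFunctor.map_comp, e, Φ.toFunctor.map_comp, Category.assoc, IsIso.hom_inv_id_assoc,
    ← Category.assoc, n1, hb, Category.assoc, ← Ψ.toFunctor.map_comp, ← e, Ψ.toFunctor.map_comp,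
    ← Category.assoc, ← n2, Category.assoc]

include hg hR in
theorem restr_sieveLE_ff :
    (Stk.restr (sieveLE hSR) 𝒳).Full ∧ (Stk.restr (sieveLE hSR) 𝒳).Faithful := by
  refine ⟨⟨fun {Φ Ψ} γ => ?_⟩, ⟨fun {Φ Ψ} α β hαβ => ?_⟩⟩
  · choose θ hθ hθ' using exists_compat hg hSR hR γ
    have nat : ∀ {a b : (Stk.sieveCat R).obj} (k : a ⟶ b),
        Φ.toFunctor.map k ≫ θ b = θ a ≫ Ψ.toFunctor.map k := by
      intro a b k
      have := hθ b
      have := hθ a
      have := sieve_map_lift Φ k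
      have := sieve_map_lift Ψ k
      have := sc_of_fibGrpd hg k.hom.left (Ψ.toFunctor.map k)
      obtain ⟨θ', ⟨h1, h2⟩, -⟩ := IsStronglyCartesian.universal_property 𝒳.p k.hom.left
        (Ψ.toFunctor.map k) (𝟙 a.obj.left) k.hom.left (Category.id_comp _).symm
        (Φ.toFunctor.map k ≫ θ b)
      have hc : Compat hSR γ a θ' := fun s m => by
        have := BasedNatTrans.app_isHomLift γ s
        have hm := sieve_map_lift Φ m
        have hm' := sieve_map_lift Ψ m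
        have : 𝒳.p.IsHomLift ((sieveLE hSR).toFunctor.map (𝟙 s) ≫ m).hom.left
            (Φ.toFunctor.map m ≫ θ') := by
          rw [CategoryTheory.Functor.map_id, Category.id_comp]
          exact IsHomLift.comp_lift_id_right' 𝒳.p _ _ a.obj.left _
        rw [CategoryTheory.Functor.map_id, Category.id_comp] at this
        have : 𝒳.p.IsHomLift m.hom.left (γ.toNatTrans.app s ≫ Ψ.toFunctor.map m) := by
          have : 𝒳.p.IsHomLift (𝟙 ((sieveLE hSR).toFunctor.obj s).obj.left) (γ.toNatTrans.app s) := ‹_›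
          infer_instance
        apply IsStronglyCartesian.ext 𝒳.p k.hom.left (Ψ.toFunctor.map k) m.hom.left
        rw [Category.assoc, h2, ← Category.assoc, ← Φ.toFunctor.map_comp, hθ' b s (m ≫ k),
          Ψ.toFunctor.map_comp, Category.assoc]
      rw [compat_unique hg hSR hR γ a (θ a) θ' (hθ' a) hc, h2]
    refine ⟨{ toNatTrans := { app := θ, naturality := fun a b k => nat k }, isHomLift' := hθ },
      BasedNatTrans.homCategory.ext _ _ (NatTrans.ext (funext fun s => ?_))⟩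
    have := hθ ((sieveLE hSR).toFunctor.obj s)
    have : 𝒳.p.IsHomLift (𝟙 ((sieveLE hSR).toFunctor.obj s).obj.left) (γ.toNatTrans.app s) :=
      BasedNatTrans.app_isHomLift γ s
    change θ ((sieveLE hSR).toFunctor.obj s) = γ.toNatTrans.app s
    refine compat_unique hg hSR hR γ _ _ _ (hθ' _) (fun s' m => ?_)
    exact γ.toNatTrans.naturality (ObjectProperty.homMk m.hom : s' ⟶ s)
  · apply BasedNatTrans.homCategory.ext
    refine NatTrans.ext (funext fun a => ?_)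
    have : 𝒳.p.IsHomLift (𝟙 a.obj.left) (α.toNatTrans.app a) := BasedNatTrans.app_isHomLift α a
    have : 𝒳.p.IsHomLift (𝟙 a.obj.left) (β.toNatTrans.app a) := BasedNatTrans.app_isHomLift β a
    refine compat_unique hg hSR hR ((Stk.restr (sieveLE hSR) 𝒳).map α) a _ _ (fun s m => ?_) (fun s m => ?_)
    · exact α.toNatTrans.naturality m
    · rw [hαβ]
      exact β.toNatTrans.naturality m

include hg hSR hR in
theorem isStackFor_of_le (hS : Stk.IsStackFor S 𝒳) : Stk.IsStackFor R 𝒳 := by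
  obtain ⟨_, _⟩ := restr_sieveLE_ff hg hSR hR
  have : (Stk.resSieve S 𝒳).IsEquivalence := hS
  let e : Stk.resSieve R 𝒳 ⋙ Stk.restr (sieveLE hSR) 𝒳 ≅ Stk.resSieve S 𝒳 :=
    NatIso.ofComponents (fun _ => Iso.refl _) (fun {_ _} α => by
      apply BasedNatTrans.homCategory.ext; ext x
      exact (Category.comp_id _).trans (Category.id_comp _).symm)
  have : (Stk.resSieve R 𝒳 ⋙ Stk.restr (sieveLE hSR) 𝒳).IsEquivalence :=
    Functor.isEquivalence_of_iso e.symm
  have h1 : (Stk.resSieve R 𝒳).Full :=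
    Functor.Full.of_comp_faithful _ (Stk.restr (sieveLE hSR) 𝒳)
  have h2 : (Stk.resSieve R 𝒳).Faithful := Functor.Faithful.of_comp _ (Stk.restr (sieveLE hSR) 𝒳)
  have h3 : (Stk.resSieve R 𝒳).EssSurj := ⟨fun Φ =>
    ⟨_, ⟨(Stk.restr (sieveLE hSR) 𝒳).preimageIso
      ((Stk.resSieve R 𝒳 ⋙ Stk.restr (sieveLE hSR) 𝒳).objObjPreimageIso
        ((Stk.restr (sieveLE hSR) 𝒳).obj Φ))⟩⟩⟩
  exact { }

end Groth.Agent.StkLib
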