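import Groth.Agent.StkLib.Cofinal
import Groth.Prelude.Def_W4c2modmodulilectNerve
import Mathlib.CategoryTheory.Category.ULift
import Mathlib.CategoryTheory.Adjunction.Whiskering

/-!
Restriction along a functor with contractible comma categories.
-/

set_option autoImplicit false
set_option backward.isDefEq.respectTransparency false
set_option backward.isDefEq.respectTransparency.types false

universe w v₄ u₄ v₃ u₃ v₂ u₂ v u

open CategoryTheory CategoryTheory.Functor W4c2modmodulilect

namespace Groth.Agent.StkLib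

open Groth.Agent.FibC

/-- A predicate invariant along arrows is constant on a category with contractible nerve. -/
theorem connected_of_contractible {J : Type u} [Category.{v} J]
    (h : HasContractibleNerve.{w, w} J) (P : J → Prop)
    (hP : ∀ {j k : J}, (j ⟶ k) → (P j ↔ P k)) (j k : J) (hj : P j) : P k := by
  let Φ : J ⥤ Discrete (ULift.{w} Prop) :=
    { obj := fun j => ⟨⟨P j⟩⟩
      map := fun {a b} m => eqToHom (by rw [propext (hP m)])
      map_id := fun _ => Subsingleton.elim _ _
      map_comp := fun _ _ => Subsingleton.elim _ _ }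
  let : Groupoid.{w} (Discrete (ULift.{w} Prop)) := Groupoid.ofIsGroupoid
  have := h.2 (Discrete (ULift.{w} Prop))
  let g := (Functor.const J : Discrete (ULift.{w} Prop) ⥤ _).objPreimage Φ
  let e := (Functor.const J : Discrete (ULift.{w} Prop) ⥤ _).objObjPreimageIso Φ
  have e1 : g.as = ⟨P j⟩ := Discrete.eq_of_hom (e.hom.app j)
  have e2 : g.as = ⟨P k⟩ := Discrete.eq_of_hom (e.hom.app k)
  exact Eq.mp (congrArg ULift.down (e1.symm.trans e2)) hj

/-- A category with an adjunction to a category with contractible nerve has contractible nerve. -/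
theorem contractible_of_adjunction {J : Type u} [Category.{v} J] {K : Type u₂} [Category.{v₂} K]
    {L : J ⥤ K} {R : K ⥤ J} (adj : L ⊣ R) (h : HasContractibleNerve.{w, w} J) :
    HasContractibleNerve.{w, w} K := by
  obtain ⟨⟨j⟩, hG⟩ := h
  refine ⟨⟨L.obj j⟩, fun G _ => ?_⟩
  have := hG G
  let adj' := adj.whiskerLeft (C := G)
  have hu : ∀ X : J ⥤ G, IsIso (adj'.unit.app X) := fun X =>
    have : ∀ a, IsIso ((adj'.unit.app X).app a) := fun a => inferInstance
    NatIso.isIso_of_isIso_app _
  have hc : ∀ Y : K ⥤ G, IsIso (adj'.counit.app Y) := fun Y =>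
    have : ∀ a, IsIso ((adj'.counit.app Y).app a) := fun a => inferInstance
    NatIso.isIso_of_isIso_app _
  have : ((whiskeringLeft K J G).obj R).IsEquivalence :=
    (Adjunction.toEquivalence adj').isEquivalence_functor
  have : ((Functor.const J : G ⥤ _) ⋙ (whiskeringLeft K J G).obj R).IsEquivalence := inferInstance
  exact Functor.isEquivalence_of_iso (NatIso.ofComponents (fun _ => Iso.refl _) :
    (Functor.const J : G ⥤ _) ⋙ (whiskeringLeft K J G).obj R ≅ Functor.const K)

section Restr

variable {D : Type u} [Category.{v} D] {A : BasedCategory.{v₂, u₂} D} {B : BasedCategory.{v₃, u₃} D}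
  {X : BasedCategory.{v₄, u₄} D}

variable {d : A ⥤ᵇ B}

theorem arrow_induction (hd : ∀ s : B.obj, HasContractibleNerve.{w, w} (StructuredArrow s d.toFunctor))
    {s : B.obj} (P : ∀ a : A.obj, (s ⟶ d.toFunctor.obj a) → Prop)
    (hP : ∀ {a b : A.obj} (h : s ⟶ d.toFunctor.obj a) (m : a ⟶ b),
      P a h ↔ P b (h ≫ d.toFunctor.map m))
    {a₀ : A.obj} (h₀ : s ⟶ d.toFunctor.obj a₀) (hh : P a₀ h₀) (a : A.obj)
    (h : s ⟶ d.toFunctor.obj a) : P a h := by
  refine connected_of_contractible (hd s) (fun j => P j.right j.hom) (fun {j k} m => ?_)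
    (StructuredArrow.mk h₀) (StructuredArrow.mk h) hh
  show P j.right j.hom ↔ P k.right k.hom
  rw [← StructuredArrow.w m]
  exact hP j.hom m.right

theorem exists_arrow (hd : ∀ s : B.obj, HasContractibleNerve.{w, w} (StructuredArrow s d.toFunctor))
    (s : B.obj) : ∃ a : A.obj, Nonempty (s ⟶ d.toFunctor.obj a) :=
  have ⟨j⟩ := (hd s).1
  ⟨j.right, ⟨j.hom⟩⟩

variable
  (hd : ∀ s : B.obj, HasContractibleNerve.{max w u₄ v₄, max w u₄ v₄} (StructuredArrow s d.toFunctor))
  (hX : FibCat.IsFibGrpd X.p)

include hd hX in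
theorem exists_family' (Φ : A ⥤ᵇ X) (s : B.obj) : Nonempty (Family (d := d) Φ s) := by
  choose z π hπ using fun j : StructuredArrow s d.toFunctor =>
    exists_lift' hX (Φ.w_obj j.right) (base j.hom)
  have hm : ∀ {j k : StructuredArrow s d.toFunctor} (m : j ⟶ k), ∃ χ : z j ⟶ z k,
      X.p.IsHomLift (𝟙 (B.p.obj s)) χ ∧ χ ≫ π k = π j ≫ Φ.toFunctor.map m.right := fun {j k} m => by
    have := sc_of_fibGrpd hX (base k.hom) (π k)
    have e : base k.hom = base j.hom ≫ A.p.map m.right := by rw [← base_map, StructuredArrow.w m]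
    have : X.p.IsHomLift (base k.hom) (π j ≫ Φ.toFunctor.map m.right) := by rw [e]; infer_instance
    exact (IsStronglyCartesian.universal_property X.p (base k.hom) (π k) (𝟙 (B.p.obj s))
      (base k.hom) (Category.id_comp _).symm (π j ≫ Φ.toFunctor.map m.right)).exists
  choose χ hχ hχ' using @hm
  have ext : ∀ {j : StructuredArrow s d.toFunctor} {z' : X.obj} (a b : z' ⟶ z j),
      X.p.IsHomLift (𝟙 (B.p.obj s)) a → X.p.IsHomLift (𝟙 (B.p.obj s)) b →
      a ≫ π j = b ≫ π j → a = b := fun {j z'} a b _ _ e => by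
    have := sc_of_fibGrpd hX (base j.hom) (π j)
    exact IsStronglyCartesian.ext X.p (base j.hom) (π j) (𝟙 (B.p.obj s)) e
  let P : StructuredArrow s d.toFunctor ⥤ X.p.Fiber (B.p.obj s) :=
    { obj := fun j => ⟨z j, IsHomLift.domain_eq X.p (base j.hom) (π j)⟩
      map := fun {j k} m => ⟨χ m, hχ m⟩
      map_id := fun j => Fiber.hom_ext (ext _ _ (hχ _)
        (IsHomLift.id (IsHomLift.domain_eq X.p (base j.hom) (π j))) (by
          show χ (𝟙 j) ≫ π j = 𝟙 (z j) ≫ π j
          rw [hχ']; simp))
      map_comp := fun {i j k} m n => Fiber.hom_ext (ext _ _ (hχ _)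
        (have := hχ m; have := hχ n; show X.p.IsHomLift _ (χ m ≫ χ n) from inferInstance)
        (by
          show χ (m ≫ n) ≫ π k = (χ m ≫ χ n) ≫ π k
          rw [Category.assoc, hχ', hχ', ← Category.assoc, hχ', Category.assoc, ← Functor.map_comp]
          rfl)) }
  have : IsGroupoid (X.p.Fiber (B.p.obj s)) := fiber_isGroupoid hX _
  let G := AsSmall.{max w u₄ v₄} (X.p.Fiber (B.p.obj s))
  have : IsGroupoid G := ⟨fun {a b} f => by
    have : IsIso (AsSmall.down.map f) := IsGroupoid.all_isIso _
    exact isIso_of_fully_faithful AsSmall.equiv.inverse f⟩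
  let : Groupoid.{max w u₄ v₄} G := Groupoid.ofIsGroupoid
  have := (hd s).2 G
  let g := (Functor.const _ : G ⥤ _).objPreimage (P ⋙ AsSmall.up)
  let e : (Functor.const (StructuredArrow s d.toFunctor)).obj g ≅ P ⋙ AsSmall.up :=
    (Functor.const _ : G ⥤ _).objObjPreimageIso (P ⋙ AsSmall.up)
  let z₀ : X.p.Fiber (B.p.obj s) := AsSmall.down.obj g
  let ε : ∀ j, z₀ ⟶ P.obj j := fun j => AsSmall.down.map (e.hom.app j)
  have hε : ∀ {j k} (m : j ⟶ k), (ε j).1 ≫ χ m = (ε k).1 := fun {j k} m => by
    have h := congrArg (fun t => Fiber.fiberInclusion.map (AsSmall.down.map t)) (e.hom.naturality m).symm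
    simp only [Functor.const_obj_map, Category.id_comp, Functor.map_comp] at h
    exact h.trans (Category.id_comp _)
  refine ⟨⟨z₀.1, fun {a} h => (ε (StructuredArrow.mk h)).1 ≫ π (StructuredArrow.mk h),
    fun {a} h => ?_, fun {a b} h m => ?_⟩⟩
  · have := (ε (StructuredArrow.mk h)).2
    have : X.p.IsHomLift (base h) (π (StructuredArrow.mk h)) := hπ (StructuredArrow.mk h)
    exact IsHomLift.comp_lift_id_left' X.p (B.p.obj s) _ (base h) (π (StructuredArrow.mk h))
  · let μ : StructuredArrow.mk h ⟶ StructuredArrow.mk (h ≫ d.toFunctor.map m) :=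
      StructuredArrow.homMk m rfl
    show _ = (ε (StructuredArrow.mk (h ≫ d.toFunctor.map m))).1 ≫ _
    rw [← hε μ]
    simp only [Category.assoc, hχ']
    rfl

include hd hX in
theorem restr_contractible_isEquivalence : (Stk.restr d X).IsEquivalence := by
  have hf : (Stk.restr d X).Faithful := ⟨fun {Φ Ψ α β} h => by
    apply BasedNatTrans.homCategory.ext
    refine NatTrans.ext (funext fun s => ?_)
    obtain ⟨a, ⟨j⟩⟩ := exists_arrow hd s
    have e : α.toNatTrans.app (d.toFunctor.obj a) = β.toNatTrans.app (d.toFunctor.obj a) :=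
      congrArg (fun t : (Stk.restr d X).obj Φ ⟶ (Stk.restr d X).obj Ψ =>
        (BasedNatTrans.toNatTrans t).app a) h
    have := sc_of_fibGrpd hX (B.p.map j) (Ψ.toFunctor.map j)
    have := α.isHomLift' s
    have := β.isHomLift' s
    apply IsStronglyCartesian.ext X.p (B.p.map j) (Ψ.toFunctor.map j) (𝟙 (B.p.obj s))
    rw [← α.toNatTrans.naturality, ← β.toNatTrans.naturality, e]⟩
  have hF : (Stk.restr d X).Full := ⟨fun {Φ Ψ} γ => by
    have hγ : ∀ a, X.p.IsHomLift (𝟙 (B.p.obj (d.toFunctor.obj a))) (γ.toNatTrans.app a) := fun a => by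
      have := γ.isHomLift' a
      rwa [d.w_obj a]
    have nat : ∀ {x y : A.obj} (n : x ⟶ y), Φ.toFunctor.map (d.toFunctor.map n) ≫ γ.toNatTrans.app y =
        γ.toNatTrans.app x ≫ Ψ.toFunctor.map (d.toFunctor.map n) := fun n => γ.toNatTrans.naturality n
    have hθ : ∀ s : B.obj, ∃ θ : Φ.toFunctor.obj s ⟶ Ψ.toFunctor.obj s,
        X.p.IsHomLift (𝟙 (B.p.obj s)) θ ∧ ∀ (a : A.obj) (h : s ⟶ d.toFunctor.obj a),
          θ ≫ Ψ.toFunctor.map h = Φ.toFunctor.map h ≫ γ.toNatTrans.app a := by
      intro s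
      obtain ⟨a₀, ⟨h₀⟩⟩ := exists_arrow hd s
      have := hγ a₀
      have := sc_of_fibGrpd hX (B.p.map h₀) (Ψ.toFunctor.map h₀)
      obtain ⟨θ, ⟨h1, h2⟩, -⟩ := IsStronglyCartesian.universal_property X.p (B.p.map h₀)
        (Ψ.toFunctor.map h₀) (𝟙 (B.p.obj s)) (B.p.map h₀) (Category.id_comp _).symm
        (Φ.toFunctor.map h₀ ≫ γ.toNatTrans.app a₀)
      refine ⟨θ, h1, arrow_induction hd
        (fun a h => θ ≫ Ψ.toFunctor.map h = Φ.toFunctor.map h ≫ γ.toNatTrans.app a)
        (fun {a b} h m => ?_) h₀ h2⟩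
      constructor
      · intro e
        rw [Functor.map_comp, ← Category.assoc, e, Category.assoc, ← nat, Functor.map_comp,
          Category.assoc]
      · intro e
        rw [Functor.map_comp, Functor.map_comp, Category.assoc, nat, ← Category.assoc,
          ← Category.assoc] at e
        have := hγ a
        have := sc_of_fibGrpd hX (B.p.map (d.toFunctor.map m)) (Ψ.toFunctor.map (d.toFunctor.map m))
        exact IsStronglyCartesian.ext X.p (B.p.map (d.toFunctor.map m))
          (Ψ.toFunctor.map (d.toFunctor.map m)) (B.p.map h) e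
    choose θ hl hθ using hθ
    refine ⟨{ toNatTrans := { app := θ, naturality := fun s t l => ?_ }, isHomLift' := hl },
      BasedNatTrans.homCategory.ext _ _ (NatTrans.ext (funext fun a => ?_))⟩
    · obtain ⟨a, ⟨j⟩⟩ := exists_arrow hd t
      have := hl s
      have := hl t
      have := sc_of_fibGrpd hX (B.p.map j) (Ψ.toFunctor.map j)
      have : X.p.IsHomLift (B.p.map l) (Φ.toFunctor.map l ≫ θ t) := inferInstance
      have : X.p.IsHomLift (B.p.map l) (θ s ≫ Ψ.toFunctor.map l) := inferInstance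
      apply IsStronglyCartesian.ext X.p (B.p.map j) (Ψ.toFunctor.map j) (B.p.map l)
      rw [Category.assoc, hθ t a j, Category.assoc, ← Functor.map_comp, hθ s a (l ≫ j),
        Functor.map_comp, Category.assoc]
    · have e := hθ (d.toFunctor.obj a) a (𝟙 _)
      rw [CategoryTheory.Functor.map_id, CategoryTheory.Functor.map_id] at e
      simpa [Stk.restr] using e⟩
  have he : (Stk.restr d X).EssSurj := ⟨fun Φ => by
    let F := fun s => (exists_family' hd hX Φ s).some
    have hobj : ∀ s, X.p.obj (F s).pt = B.p.obj s := fun s => by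
      obtain ⟨a, ⟨j⟩⟩ := exists_arrow hd s
      have := (F s).lift j
      exact IsHomLift.domain_eq X.p (base j) ((F s).app j)
    have fext : ∀ (s : B.obj) {T : D} {z' : X.obj} (g : T ⟶ B.p.obj s) {x x' : z' ⟶ (F s).pt}
        [X.p.IsHomLift g x] [X.p.IsHomLift g x'] {a : A.obj} (h : s ⟶ d.toFunctor.obj a),
        x ≫ (F s).app h = x' ≫ (F s).app h → x = x' := fun s {T z'} g {x x'} _ _ {a} h e => by
      have := (F s).lift h
      have := sc_of_fibGrpd hX (base h) ((F s).app h)
      exact IsStronglyCartesian.ext X.p (base h) ((F s).app h) g e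
    have hl : ∀ {s t : B.obj} (l : s ⟶ t), ∃ χ : (F s).pt ⟶ (F t).pt,
        X.p.IsHomLift (B.p.map l) χ ∧ ∀ (a : A.obj) (h : t ⟶ d.toFunctor.obj a),
          χ ≫ (F t).app h = (F s).app (l ≫ h) := by
      intro s t l
      obtain ⟨a₀, ⟨h₀⟩⟩ := exists_arrow hd t
      have := (F t).lift h₀
      have := (F s).lift (l ≫ h₀)
      have := sc_of_fibGrpd hX (base h₀) ((F t).app h₀)
      obtain ⟨χ, ⟨h1, h2⟩, -⟩ := IsStronglyCartesian.universal_property X.p (base h₀)
        ((F t).app h₀) (B.p.map l) (base (l ≫ h₀)) (base_comp l h₀) ((F s).app (l ≫ h₀))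
      refine ⟨χ, h1, arrow_induction hd (fun a h => χ ≫ (F t).app h = (F s).app (l ≫ h))
        (fun {a b} h m => ?_) h₀ h2⟩
      rw [← (F t).comp, ← Category.assoc l, ← (F s).comp, ← Category.assoc]
      refine ⟨fun e => by rw [e], fun e => ?_⟩
      have := (F t).lift h
      have := (F s).lift (l ≫ h)
      have : X.p.IsHomLift (base (l ≫ h)) (χ ≫ (F t).app h) := by rw [base_comp]; infer_instance
      have := sc_of_fibGrpd hX (A.p.map m) (Φ.toFunctor.map m)
      exact IsStronglyCartesian.ext X.p (A.p.map m) (Φ.toFunctor.map m) (base (l ≫ h)) e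
    choose χ hχ hχ' using @hl
    let H₀ : B.obj ⥤ X.obj :=
      { obj := fun s => (F s).pt
        map := fun l => χ l
        map_id := fun s => by
          obtain ⟨a, ⟨j⟩⟩ := exists_arrow hd s
          have := hχ (𝟙 s)
          have : X.p.IsHomLift (B.p.map (𝟙 s)) (𝟙 (F s).pt) := by
            rw [CategoryTheory.Functor.map_id]
            exact IsHomLift.id (hobj s)
          apply fext s (B.p.map (𝟙 s)) j
          rw [hχ', Category.id_comp, Category.id_comp]
        map_comp := fun {r s t} l l' => by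
          obtain ⟨a, ⟨j⟩⟩ := exists_arrow hd t
          have := hχ (l ≫ l')
          have := hχ l
          have := hχ l'
          have : X.p.IsHomLift (B.p.map (l ≫ l')) (χ l ≫ χ l') := by
            rw [Functor.map_comp]; infer_instance
          apply fext t (B.p.map (l ≫ l')) j
          rw [hχ', Category.assoc, Category.assoc, hχ', hχ'] }
    let H : B ⥤ᵇ X := ⟨H₀, CategoryTheory.Functor.ext hobj (fun s t l => by
      have := hχ l
      exact IsHomLift.fac' X.p (B.p.map l) (χ l))⟩
    have hi : ∀ a : A.obj, X.p.IsHomLift (𝟙 (A.p.obj a)) ((F (d.toFunctor.obj a)).app (𝟙 _)) := fun a => by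
      have h := (F (d.toFunctor.obj a)).lift (𝟙 (d.toFunctor.obj a))
      have e : base (𝟙 (d.toFunctor.obj a)) = eqToHom (d.w_obj a) ≫ 𝟙 (A.p.obj a) := by simp [base]
      rw [e] at h
      exact (IsHomLift.lift_eqToHom_comp_iff _ _ _ _).1 h
    have hiso : ∀ a : A.obj, IsIso ((F (d.toFunctor.obj a)).app (𝟙 (d.toFunctor.obj a))) := fun a => by
      have := hi a
      exact isIso_of_fibGrpd hX (𝟙 (A.p.obj a)) _
    refine ⟨H, ⟨natIsoMk (fun a => asIso ((F (d.toFunctor.obj a)).app (𝟙 _))) (fun {a b} n => ?_) hi⟩⟩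
    show χ (d.toFunctor.map n) ≫ (F (d.toFunctor.obj b)).app (𝟙 _) =
      (F (d.toFunctor.obj a)).app (𝟙 _) ≫ Φ.toFunctor.map n
    rw [hχ', (F _).comp, Category.comp_id, Category.id_comp]⟩
  exact { }

end Restr

section Fibred

variable {C : Type u₂} [Category.{v₂} C] {E : Type u} [Category.{v} E] (f : C ⥤ E)

/-- The fibre in the comma category. -/
def fiberToArrow (Y : E) : f.Fiber Y ⥤ StructuredArrow Y f where
  obj x := StructuredArrow.mk (eqToHom x.2.symm : Y ⟶ f.obj x.1)
  map {x y} m := StructuredArrow.homMk m.1 (by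
    have := m.2
    show eqToHom x.2.symm ≫ f.map m.1 = eqToHom y.2.symm
    rw [IsHomLift.fac' f (𝟙 Y) m.1]
    simp)

theorem contractible_structuredArrow [f.IsPreFibered] (Y : E)
    (h : HasContractibleNerve.{w, w} (f.Fiber Y)) :
    HasContractibleNerve.{w, w} (StructuredArrow Y f) := by
  let R : StructuredArrow Y f → f.Fiber Y := fun j =>
    ⟨IsPreFibered.pullbackObj (p := f) rfl j.hom, IsPreFibered.pullbackObj_proj rfl j.hom⟩
  let π : ∀ j : StructuredArrow Y f, (R j).1 ⟶ j.right :=
    fun j => IsPreFibered.pullbackMap (p := f) rfl j.hom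
  have hπ : ∀ j, f.IsCartesian j.hom (π j) := fun j => inferInstanceAs (f.IsCartesian j.hom (IsPreFibered.pullbackMap rfl j.hom))
  let e : ∀ x j, ((fiberToArrow f Y).obj x ⟶ j) ≃ (x ⟶ R j) := fun x j =>
    { toFun := fun m =>
        have : f.IsHomLift j.hom m.right := IsHomLift.of_fac f _ _ x.2 rfl (by
          rw [← StructuredArrow.w m]; simp [fiberToArrow])
        ⟨IsCartesian.map f j.hom (π j) m.right, inferInstance⟩
      invFun := fun χ =>
        StructuredArrow.homMk (χ.1 ≫ π j) (by
          have := χ.2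
          have : f.IsHomLift j.hom (χ.1 ≫ π j) := inferInstance
          show eqToHom x.2.symm ≫ f.map (χ.1 ≫ π j) = j.hom
          rw [IsHomLift.fac' f j.hom (χ.1 ≫ π j)]
          simp)
      left_inv := fun m => by
        have : f.IsHomLift j.hom m.right := IsHomLift.of_fac f _ _ x.2 rfl (by
          rw [← StructuredArrow.w m]; simp [fiberToArrow])
        exact StructuredArrow.hom_ext _ _ (IsCartesian.fac f j.hom (π j) m.right)
      right_inv := fun χ => Fiber.hom_ext (by
        have := χ.2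
        exact (IsCartesian.map_uniq f j.hom (π j) (χ.1 ≫ π j) χ.1 rfl).symm) }
  refine contractible_of_adjunction (Adjunction.adjunctionOfEquivRight e fun x' x j k m => ?_) h
  refine (Equiv.eq_symm_apply _).1 (StructuredArrow.hom_ext _ _ ?_)
  have : f.IsHomLift j.hom m.right := IsHomLift.of_fac f _ _ x.2 rfl (by
    rw [← StructuredArrow.w m]; simp [fiberToArrow])
  show k.1 ≫ m.right = (k.1 ≫ IsCartesian.map f j.hom (π j) m.right) ≫ π j
  rw [Category.assoc, IsCartesian.fac]

end Fibred

end Groth.Agent.StkLib
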