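import Groth.Agent.StkLib.Glue

/-!
Restriction along a cofinal functor over the base is an equivalence on categories fibred in groupoids.
-/

set_option autoImplicit false
set_option backward.isDefEq.respectTransparency false
set_option backward.isDefEq.respectTransparency.types false

universe v₄ u₄ v₃ u₃ v₂ u₂ v u

open CategoryTheory CategoryTheory.Functor

namespace Groth.Agent.StkLib

open Groth.Agent.FibC

variable {D : Type u} [Category.{v} D] {A : BasedCategory.{v₂, u₂} D} {B : BasedCategory.{v₃, u₃} D}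
  {X : BasedCategory.{v₄, u₄} D}

/-- Every object of `B` maps to the image of `d` in an essentially unique way. -/
structure IsCofinal (d : A ⥤ᵇ B) : Prop where
  exists_arrow : ∀ s : B.obj, ∃ a : A.obj, Nonempty (s ⟶ d.toFunctor.obj a)
  cone : ∀ {s : B.obj} {a b : A.obj} (h : s ⟶ d.toFunctor.obj a) (h' : s ⟶ d.toFunctor.obj b),
    ∃ (c : A.obj) (k : s ⟶ d.toFunctor.obj c) (m : c ⟶ a) (m' : c ⟶ b),
      k ≫ d.toFunctor.map m = h ∧ k ≫ d.toFunctor.map m' = h'
  graph : ∀ {s : B.obj} {a b : A.obj} (m m' : a ⟶ b) (h : s ⟶ d.toFunctor.obj a),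
    h ≫ d.toFunctor.map m = h ≫ d.toFunctor.map m' →
      ∃ (c : A.obj) (n : a ⟶ c) (δ : b ⟶ c) (p₁ p₂ : c ⟶ b),
        n ≫ p₁ = m ∧ n ≫ p₂ = m' ∧ δ ≫ p₁ = 𝟙 b ∧ δ ≫ p₂ = 𝟙 b ∧
          h ≫ d.toFunctor.map n = h ≫ d.toFunctor.map m ≫ d.toFunctor.map δ

variable {d : A ⥤ᵇ B} (hd : IsCofinal d) (hX : FibCat.IsFibGrpd X.p)

/-- The image of an arrow to the image of `d`. -/
abbrev base {s : B.obj} {a : A.obj} (h : s ⟶ d.toFunctor.obj a) : B.p.obj s ⟶ A.p.obj a :=
  B.p.map h ≫ eqToHom (d.w_obj a)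

theorem base_map {s : B.obj} {a b : A.obj} (h : s ⟶ d.toFunctor.obj a) (m : a ⟶ b) :
    base (h ≫ d.toFunctor.map m) = base h ≫ A.p.map m := by
  rw [base, base, Functor.map_comp, w_map]
  simp

theorem base_comp {s t : B.obj} {a : A.obj} (l : t ⟶ s) (h : s ⟶ d.toFunctor.obj a) :
    base (l ≫ h) = B.p.map l ≫ base h := by
  simp [base]

include hd hX in
/-- Two parallel arrows equalised by an arrow from `s` act equally on lifts. -/
theorem comp_map_eq (Φ : A ⥤ᵇ X) {s : B.obj} {a b : A.obj} (m m' : a ⟶ b)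
    (h : s ⟶ d.toFunctor.obj a) (e : h ≫ d.toFunctor.map m = h ≫ d.toFunctor.map m')
    {z : X.obj} (η : z ⟶ Φ.toFunctor.obj a) [X.p.IsHomLift (base h) η] :
    η ≫ Φ.toFunctor.map m = η ≫ Φ.toFunctor.map m' := by
  obtain ⟨c, n, δ, p₁, p₂, h1, h2, h3, h4, h5⟩ := hd.graph m m' h e
  have l1 : X.p.IsHomLift (base (h ≫ d.toFunctor.map m ≫ d.toFunctor.map δ))
      (η ≫ Φ.toFunctor.map n) := by
    rw [← h5, base_map]; infer_instance
  have l2 : X.p.IsHomLift (base (h ≫ d.toFunctor.map m ≫ d.toFunctor.map δ))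
      ((η ≫ Φ.toFunctor.map m) ≫ Φ.toFunctor.map δ) := by
    rw [← Category.assoc, base_map, base_map]; infer_instance
  obtain ⟨θ, -, hθ⟩ := lift_iso hX (base (h ≫ d.toFunctor.map m ≫ d.toFunctor.map δ))
    (η ≫ Φ.toFunctor.map n) ((η ≫ Φ.toFunctor.map m) ≫ Φ.toFunctor.map δ)
  have e1 := congrArg (fun t => t ≫ Φ.toFunctor.map p₁) hθ
  have e2 := congrArg (fun t => t ≫ Φ.toFunctor.map p₂) hθ
  simp only [Category.assoc, ← Functor.map_comp, h1, h2, h3, h4,
    CategoryTheory.Functor.map_id, Category.comp_id] at e1 e2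
  rw [← e1, ← e2]

/-- A compatible family of lifts at an object of `B`. -/
structure Family (Φ : A ⥤ᵇ X) (s : B.obj) where
  pt : X.obj
  app : ∀ {a : A.obj}, (s ⟶ d.toFunctor.obj a) → (pt ⟶ Φ.toFunctor.obj a)
  lift : ∀ {a : A.obj} (h : s ⟶ d.toFunctor.obj a), X.p.IsHomLift (base h) (app h)
  comp : ∀ {a b : A.obj} (h : s ⟶ d.toFunctor.obj a) (m : a ⟶ b),
    app h ≫ Φ.toFunctor.map m = app (h ≫ d.toFunctor.map m)

include hd hX in
theorem exists_family (Φ : A ⥤ᵇ X) (s : B.obj) : Nonempty (Family (d := d) Φ s) := by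
  obtain ⟨a₀, ⟨h₀⟩⟩ := hd.exists_arrow s
  obtain ⟨z, π₀, hπ₀⟩ := exists_lift' hX (Φ.w_obj a₀) (base h₀)
  choose c k m₀ m hk₀ hk using fun (a : A.obj) (h : s ⟶ d.toFunctor.obj a) => hd.cone h₀ h
  have hη : ∀ (a : A.obj) (h : s ⟶ d.toFunctor.obj a), ∃ η : z ⟶ Φ.toFunctor.obj (c a h),
      X.p.IsHomLift (base (k a h)) η ∧ η ≫ Φ.toFunctor.map (m₀ a h) = π₀ := fun a h => by
    have := sc_of_fibGrpd hX (A.p.map (m₀ a h)) (Φ.toFunctor.map (m₀ a h))
    exact (IsStronglyCartesian.universal_property X.p (A.p.map (m₀ a h)) (Φ.toFunctor.map (m₀ a h))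
      (base (k a h)) (base h₀) (by rw [← base_map, hk₀]) π₀).exists
  choose η hη hη' using hη
  -- any cone computes the same arrow
  have key : ∀ (a : A.obj) (h : s ⟶ d.toFunctor.obj a) (c' : A.obj) (k' : s ⟶ d.toFunctor.obj c')
      (n₀ : c' ⟶ a₀) (n : c' ⟶ a) (η' : z ⟶ Φ.toFunctor.obj c'), X.p.IsHomLift (base k') η' →
      k' ≫ d.toFunctor.map n₀ = h₀ → k' ≫ d.toFunctor.map n = h →
      η' ≫ Φ.toFunctor.map n₀ = π₀ →
      η' ≫ Φ.toFunctor.map n = η a h ≫ Φ.toFunctor.map (m a h) := by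
    intro a h c' k' n₀ n η' hl e₀ e e'
    obtain ⟨c'', k'', u, u', hu, hu'⟩ := hd.cone k' (k a h)
    have hu0 : k'' ≫ d.toFunctor.map (u ≫ n₀) = h₀ := by
      rw [Functor.map_comp, ← Category.assoc, hu, e₀]
    have := sc_of_fibGrpd hX (A.p.map (u ≫ n₀)) (Φ.toFunctor.map (u ≫ n₀))
    obtain ⟨μ, ⟨hμ, hμ'⟩, -⟩ := IsStronglyCartesian.universal_property X.p (A.p.map (u ≫ n₀))
      (Φ.toFunctor.map (u ≫ n₀)) (base k'') (base h₀) (by rw [← base_map, hu0]) π₀
    have hu0' : k'' ≫ d.toFunctor.map (u' ≫ m₀ a h) = h₀ := by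
      rw [Functor.map_comp, ← Category.assoc, hu', hk₀]
    have h1 : μ ≫ Φ.toFunctor.map u = η' := by
      have : X.p.IsHomLift (base k') (μ ≫ Φ.toFunctor.map u) := by
        rw [← hu, base_map]; infer_instance
      have := sc_of_fibGrpd hX (A.p.map n₀) (Φ.toFunctor.map n₀)
      apply IsStronglyCartesian.ext X.p (A.p.map n₀) (Φ.toFunctor.map n₀) (base k')
      rw [Category.assoc, ← Functor.map_comp, hμ', e']
    have h2 : μ ≫ Φ.toFunctor.map u' = η a h := by
      have : X.p.IsHomLift (base (k a h)) (μ ≫ Φ.toFunctor.map u') := by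
        rw [← hu', base_map]; infer_instance
      have := hη a h
      have := sc_of_fibGrpd hX (A.p.map (m₀ a h)) (Φ.toFunctor.map (m₀ a h))
      apply IsStronglyCartesian.ext X.p (A.p.map (m₀ a h)) (Φ.toFunctor.map (m₀ a h)) (base (k a h))
      rw [Category.assoc, ← Functor.map_comp, hη' a h,
        ← comp_map_eq hd hX Φ (u ≫ n₀) (u' ≫ m₀ a h) k'' (hu0.trans hu0'.symm) μ, hμ']
    rw [← h1, ← h2, Category.assoc, Category.assoc, ← Functor.map_comp, ← Functor.map_comp]
    refine comp_map_eq hd hX Φ _ _ k'' ?_ μ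
    rw [Functor.map_comp, Functor.map_comp, ← Category.assoc, ← Category.assoc, hu, hu', e, hk]
  refine ⟨⟨z, fun {a} h => η a h ≫ Φ.toFunctor.map (m a h), fun {a} h => ?_, fun {a b} h n => ?_⟩⟩
  · have := hη a h
    have e : base h = base (k a h) ≫ A.p.map (m a h) := by rw [← base_map, hk]
    rw [e]; infer_instance
  · rw [Category.assoc, ← Functor.map_comp]
    exact key b _ (c a h) (k a h) (m₀ a h) (m a h ≫ n) (η a h) (hη a h) (hk₀ a h)
      (by rw [Functor.map_comp, ← Category.assoc, hk]) (hη' a h)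

include hd hX in
theorem family_ext {Φ : A ⥤ᵇ X} {s : B.obj} (F : Family (d := d) Φ s) {T : D} {w : X.obj}
    (g : T ⟶ B.p.obj s) {χ χ' : w ⟶ F.pt} [X.p.IsHomLift g χ] [X.p.IsHomLift g χ']
    {a : A.obj} (h : s ⟶ d.toFunctor.obj a) (e : χ ≫ F.app h = χ' ≫ F.app h) : χ = χ' := by
  have := F.lift h
  have := sc_of_fibGrpd hX (base h) (F.app h)
  exact IsStronglyCartesian.ext X.p (base h) (F.app h) g e

include hd hX in
theorem restr_cofinal_isEquivalence : (Stk.restr d X).IsEquivalence := by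
  have hf : (Stk.restr d X).Faithful := ⟨fun {Φ Ψ α β} h => by
    apply BasedNatTrans.homCategory.ext
    refine NatTrans.ext (funext fun s => ?_)
    obtain ⟨a, ⟨j⟩⟩ := hd.exists_arrow s
    have e : α.toNatTrans.app (d.toFunctor.obj a) = β.toNatTrans.app (d.toFunctor.obj a) :=
      congrArg (fun t : (Stk.restr d X).obj Φ ⟶ (Stk.restr d X).obj Ψ =>
        (BasedNatTrans.toNatTrans t).app a) h
    have := sc_of_fibGrpd hX (B.p.map j) (Ψ.toFunctor.map j)
    have := α.isHomLift' s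
    have := β.isHomLift' s
    apply IsStronglyCartesian.ext X.p (B.p.map j) (Ψ.toFunctor.map j) (𝟙 (B.p.obj s))
    rw [← α.toNatTrans.naturality, ← β.toNatTrans.naturality, e]⟩
  have hF : (Stk.restr d X).Full := ⟨fun {Φ Ψ} γ => by
    have hθ : ∀ s : B.obj, ∃ θ : Φ.toFunctor.obj s ⟶ Ψ.toFunctor.obj s,
        X.p.IsHomLift (𝟙 (B.p.obj s)) θ ∧ ∀ (a : A.obj) (h : s ⟶ d.toFunctor.obj a),
          θ ≫ Ψ.toFunctor.map h = Φ.toFunctor.map h ≫ γ.toNatTrans.app a := by
      intro s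
      obtain ⟨a₀, ⟨h₀⟩⟩ := hd.exists_arrow s
      have hγ : ∀ a, X.p.IsHomLift (𝟙 (B.p.obj (d.toFunctor.obj a))) (γ.toNatTrans.app a) := fun a => by
        have := γ.isHomLift' a
        rwa [d.w_obj a]
      have := hγ a₀
      have := sc_of_fibGrpd hX (B.p.map h₀) (Ψ.toFunctor.map h₀)
      obtain ⟨θ, ⟨h1, h2⟩, -⟩ := IsStronglyCartesian.universal_property X.p (B.p.map h₀)
        (Ψ.toFunctor.map h₀) (𝟙 (B.p.obj s)) (B.p.map h₀) (Category.id_comp _).symm
        (Φ.toFunctor.map h₀ ≫ γ.toNatTrans.app a₀)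
      refine ⟨θ, h1, fun a h => ?_⟩
      obtain ⟨c, k, m, m', hm, hm'⟩ := hd.cone h₀ h
      have nat : ∀ {x y : A.obj} (n : x ⟶ y), Φ.toFunctor.map (d.toFunctor.map n) ≫ γ.toNatTrans.app y =
          γ.toNatTrans.app x ≫ Ψ.toFunctor.map (d.toFunctor.map n) := fun n => γ.toNatTrans.naturality n
      have hk : θ ≫ Ψ.toFunctor.map k = Φ.toFunctor.map k ≫ γ.toNatTrans.app c := by
        have := hγ c
        have := sc_of_fibGrpd hX (B.p.map (d.toFunctor.map m)) (Ψ.toFunctor.map (d.toFunctor.map m))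
        apply IsStronglyCartesian.ext X.p (B.p.map (d.toFunctor.map m))
          (Ψ.toFunctor.map (d.toFunctor.map m)) (B.p.map k)
        rw [Category.assoc, ← Functor.map_comp, hm, h2, Category.assoc, ← nat,
          ← Category.assoc, ← Functor.map_comp, hm]
      rw [← hm', Functor.map_comp, ← Category.assoc, hk, Category.assoc, ← nat, Functor.map_comp,
        Category.assoc]
    choose θ hl hθ using hθ
    refine ⟨{ toNatTrans := { app := θ, naturality := fun s t l => ?_ }, isHomLift' := hl },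
      BasedNatTrans.homCategory.ext _ _ (NatTrans.ext (funext fun a => ?_))⟩
    · obtain ⟨a, ⟨j⟩⟩ := hd.exists_arrow t
      have := hl s
      have := hl t
      have := sc_of_fibGrpd hX (B.p.map j) (Ψ.toFunctor.map j)
      have : X.p.IsHomLift (B.p.map l) (Φ.toFunctor.map l ≫ θ t) := inferInstance
      have : X.p.IsHomLift (B.p.map l) (θ s ≫ Ψ.toFunctor.map l) := inferInstance
      apply IsStronglyCartesian.ext X.p (B.p.map j) (Ψ.toFunctor.map j) (B.p.map l)
      rw [Category.assoc, hθ t a j, Category.assoc, ← Functor.map_comp, hθ s a (l ≫ j),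
        Functor.map_comp, Category.assoc]
    · have e := hθ (d.toFunctor.obj a) a (𝟙 _)
      rw [CategoryTheory.Functor.map_id, CategoryTheory.Functor.map_id] at e
      simpa [Stk.restr] using e⟩
  have he : (Stk.restr d X).EssSurj := ⟨fun Φ => by
    let F := fun s => (exists_family hd hX Φ s).some
    have hl : ∀ {s t : B.obj} (l : s ⟶ t), ∃ χ : (F s).pt ⟶ (F t).pt,
        X.p.IsHomLift (B.p.map l) χ ∧ ∀ (a : A.obj) (h : t ⟶ d.toFunctor.obj a),
          χ ≫ (F t).app h = (F s).app (l ≫ h) := by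
      intro s t l
      obtain ⟨a₀, ⟨h₀⟩⟩ := hd.exists_arrow t
      have := (F t).lift h₀
      have := (F s).lift (l ≫ h₀)
      have := sc_of_fibGrpd hX (base h₀) ((F t).app h₀)
      obtain ⟨χ, ⟨h1, h2⟩, -⟩ := IsStronglyCartesian.universal_property X.p (base h₀)
        ((F t).app h₀) (B.p.map l) (base (l ≫ h₀)) (base_comp l h₀) ((F s).app (l ≫ h₀))
      refine ⟨χ, h1, fun a h => ?_⟩
      obtain ⟨c, k, m, m', hm, hm'⟩ := hd.cone h₀ h
      have hk : χ ≫ (F t).app k = (F s).app (l ≫ k) := by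
        have := (F t).lift k
        have := (F s).lift (l ≫ k)
        have : X.p.IsHomLift (base (l ≫ k)) (χ ≫ (F t).app k) := by
          rw [base_comp]; infer_instance
        have := sc_of_fibGrpd hX (A.p.map m) (Φ.toFunctor.map m)
        apply IsStronglyCartesian.ext X.p (A.p.map m) (Φ.toFunctor.map m) (base (l ≫ k))
        rw [Category.assoc, (F t).comp, hm, h2, (F s).comp, Category.assoc, hm]
      rw [← hm', ← (F t).comp, ← Category.assoc, hk, (F s).comp, Category.assoc]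
    choose χ hχ hχ' using @hl
    let H₀ : B.obj ⥤ X.obj :=
      { obj := fun s => (F s).pt
        map := fun l => χ l
        map_id := fun s => by
          obtain ⟨a, ⟨j⟩⟩ := hd.exists_arrow s
          have := hχ (𝟙 s)
          have : X.p.IsHomLift (B.p.map (𝟙 s)) (𝟙 (F s).pt) := by
            rw [CategoryTheory.Functor.map_id]
            exact IsHomLift.id (have := (F s).lift j; IsHomLift.domain_eq X.p (base j) ((F s).app j))
          apply family_ext hd hX (F s) (B.p.map (𝟙 s)) j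
          rw [hχ', Category.id_comp, Category.id_comp]
        map_comp := fun {r s t} l l' => by
          obtain ⟨a, ⟨j⟩⟩ := hd.exists_arrow t
          have := hχ (l ≫ l')
          have := hχ l
          have := hχ l'
          have : X.p.IsHomLift (B.p.map (l ≫ l')) (χ l ≫ χ l') := by
            rw [Functor.map_comp]; infer_instance
          apply family_ext hd hX (F t) (B.p.map (l ≫ l')) j
          rw [hχ', Category.assoc, Category.assoc, hχ', hχ'] }
    have hobj : ∀ s, X.p.obj (F s).pt = B.p.obj s := fun s => by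
      obtain ⟨a, ⟨j⟩⟩ := hd.exists_arrow s
      have := (F s).lift j
      exact IsHomLift.domain_eq X.p (base j) ((F s).app j)
    let H : B ⥤ᵇ X := ⟨H₀, CategoryTheory.Functor.ext hobj (fun s t l => by
      have := hχ l
      exact IsHomLift.fac' X.p (B.p.map l) (χ l))⟩
    have hi : ∀ a : A.obj, X.p.IsHomLift (𝟙 (A.p.obj a)) ((F (d.toFunctor.obj a)).app (𝟙 _)) := fun a => by
      have h := (F (d.toFunctor.obj a)).lift (𝟙 (d.toFunctor.obj a))
      have e : base (𝟙 (d.toFunctor.obj a)) = eqToHom (d.w_obj a) ≫ 𝟙 (A.p.obj a) := by simp [base]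
      rw [e] at h
      exact (IsHomLift.lift_eqToHom_comp_iff _ _ _ _).1 h
    have hiso : ∀ a : A.obj, IsIso ((F (d.toFunctor.obj a)).app (𝟙 (d.toFunctor.obj a))) := fun a => by
      have := hi a
      exact isIso_of_fibGrpd hX (𝟙 (A.p.obj a)) _
    refine ⟨H, ⟨natIsoMk (fun a => asIso ((F (d.toFunctor.obj a)).app (𝟙 _))) (fun {a b} n => ?_) hi⟩⟩
    show χ (d.toFunctor.map n) ≫ (F (d.toFunctor.obj b)).app (𝟙 _) =
      (F (d.toFunctor.obj a)).app (𝟙 _) ≫ Φ.toFunctor.map n
    rw [hχ', (F _).comp, Category.comp_id, Category.id_comp]⟩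
  exact { }

end Groth.Agent.StkLib
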