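import Groth.Prelude.Def_AlgSt
import Groth.Agent.StkLib.Stack
import Groth.Agent.FibC.Basic
import Mathlib.CategoryTheory.Whiskering
import Mathlib.CategoryTheory.EqToHom

/-!
Lifts of a functor `P : A ⥤ X` along an isofibration `q : Y ⥤ X`, i.e. functors over `X` from `P` to `q`,
and their invariance under equivalences of the source.
-/

set_option autoImplicit false
set_option backward.isDefEq.respectTransparency false
set_option backward.isDefEq.respectTransparency.types false

universe v₇ u₇ v₆ u₆ v₅ u₅ v₄ u₄ v₃ u₃ v₂ u₂ v₁ u₁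

open CategoryTheory CategoryTheory.Functor

namespace Groth.Agent.StkLib

variable {X : Type u₁} [Category.{v₁} X] {Y : Type u₂} [Category.{v₂} Y] {q : Y ⥤ X}

/-- Isomorphisms lift along `q`. -/
def IsoLift (q : Y ⥤ X) : Prop :=
  ∀ (y : Y) {x : X} (i : x ≅ q.obj y), ∃ (y' : Y) (e : y' ≅ y), q.IsHomLift i.hom e.hom

theorem isoLift_of_fibGrpd (h : FibCat.IsFibGrpd q) : IsoLift q := fun y x i => by
  obtain ⟨y', φ, hφ⟩ := h.exists_lift i.hom
  have : IsIso φ := FibC.isIso_of_fibGrpd h i.hom φ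
  exact ⟨y', asIso φ, hφ⟩

/-- The category of lifts of `P` along `q`. -/
abbrev Lifts {A : Type u₃} [Category.{v₃} A] (P : A ⥤ X) (q : Y ⥤ X) :=
  BasedCategory.ofFunctor P ⥤ᵇ BasedCategory.ofFunctor q

section

variable {A : Type u₃} [Category.{v₃} A] {P : A ⥤ X}

theorem lifts_map_app {Φ Ψ : Lifts P q} (α : Φ ⟶ Ψ) (a : A) :
    q.map (α.toNatTrans.app a) = eqToHom ((Φ.w_obj a).trans (Ψ.w_obj a).symm) := by
  have := α.isHomLift' a
  have h := IsHomLift.fac' (BasedCategory.ofFunctor q).p (𝟙 ((BasedCategory.ofFunctor P).p.obj a))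
    (α.toNatTrans.app a)
  rw [Category.id_comp, eqToHom_trans] at h
  exact h

/-- A morphism of lifts from a natural transformation lying over identities. -/
def lmk {Φ Ψ : Lifts P q} (α : Φ.toFunctor ⟶ Ψ.toFunctor)
    (h : ∀ a, q.map (α.app a) = eqToHom ((Φ.w_obj a).trans (Ψ.w_obj a).symm)) : Φ ⟶ Ψ where
  toNatTrans := α
  isHomLift' a := IsHomLift.of_fac' _ _ _ (Φ.w_obj a) (Ψ.w_obj a) (by
    rw [Category.id_comp, eqToHom_trans]
    exact h a)

/-- An isomorphism of lifts from a natural isomorphism lying over identities. -/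
def lmkIso {Φ Ψ : Lifts P q} (α : Φ.toFunctor ≅ Ψ.toFunctor)
    (h : ∀ a, q.map (α.hom.app a) = eqToHom ((Φ.w_obj a).trans (Ψ.w_obj a).symm)) : Φ ≅ Ψ where
  hom := lmk α.hom h
  inv := lmk α.inv (fun a => by
    have := h a
    rw [← cancel_epi (q.map (α.hom.app a)), ← Functor.map_comp, Iso.hom_inv_id_app,
      CategoryTheory.Functor.map_id, this, eqToHom_trans, eqToHom_refl])
  hom_inv_id := BasedNatTrans.homCategory.ext _ _ α.hom_inv_id
  inv_hom_id := BasedNatTrans.homCategory.ext _ _ α.inv_hom_id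

theorem lifts_ext {Φ Ψ : Lifts P q} {α β : Φ ⟶ Ψ} (h : α.toNatTrans = β.toNatTrans) : α = β :=
  BasedNatTrans.homCategory.ext _ _ h

/-- Replace a functor by an isomorphic one with prescribed image. -/
theorem exists_transport (hq : IsoLift q) (Φ₀ : A ⥤ Y) (σ : P ≅ Φ₀ ⋙ q) :
    ∃ (Φ : Lifts P q) (t : Φ.toFunctor ≅ Φ₀),
      ∀ a, q.map (t.hom.app a) = eqToHom (Φ.w_obj a) ≫ σ.hom.app a := by
  choose y e he using fun a => hq (Φ₀.obj a) (σ.app a)
  have hy : ∀ a, q.obj (y a) = P.obj a := fun a =>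
    have := he a; IsHomLift.domain_eq q (σ.app a).hom (e a).hom
  have hm : ∀ a, q.map (e a).hom = eqToHom (hy a) ≫ σ.hom.app a := fun a => by
    have := he a
    have h := IsHomLift.fac' q (σ.app a).hom (e a).hom
    rw [h]
    simp
  let Φ₁ : A ⥤ Y :=
    { obj := y
      map := fun {a b} m => (e a).hom ≫ Φ₀.map m ≫ (e b).inv
      map_id := fun a => by simp
      map_comp := fun m m' => by simp }
  let t : Φ₁ ≅ Φ₀ := NatIso.ofComponents e (fun {a b} m => by simp [Φ₁])
  refine ⟨{ toFunctor := Φ₁, w := CategoryTheory.Functor.ext hy (fun a b m => ?_) }, t, hm⟩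
  show q.map ((e a).hom ≫ Φ₀.map m ≫ (e b).inv) = eqToHom (hy a) ≫ P.map m ≫ eqToHom (hy b).symm
  rw [← cancel_mono (q.map (e b).hom), ← Functor.map_comp, Category.assoc, Category.assoc,
    Iso.inv_hom_id, Category.comp_id, Functor.map_comp, hm a, hm b, Category.assoc, Category.assoc,
    Category.assoc, eqToHom_trans_assoc, eqToHom_refl, Category.id_comp]
  exact congrArg (eqToHom (hy a) ≫ ·) (σ.hom.naturality m).symm

/-- A chosen replacement of a functor by an isomorphic one with prescribed image. -/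
noncomputable def transport (hq : IsoLift q) (Φ₀ : A ⥤ Y) (σ : P ≅ Φ₀ ⋙ q) : Lifts P q :=
  (exists_transport hq Φ₀ σ).choose

/-- The comparison with the original functor. -/
noncomputable def transportIso (hq : IsoLift q) (Φ₀ : A ⥤ Y) (σ : P ≅ Φ₀ ⋙ q) :
    (transport hq Φ₀ σ).toFunctor ≅ Φ₀ :=
  (exists_transport hq Φ₀ σ).choose_spec.choose

theorem transportIso_map (hq : IsoLift q) (Φ₀ : A ⥤ Y) (σ : P ≅ Φ₀ ⋙ q) (a : A) :
    q.map ((transportIso hq Φ₀ σ).hom.app a) =
      eqToHom ((transport hq Φ₀ σ).w_obj a) ≫ σ.hom.app a :=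
  (exists_transport hq Φ₀ σ).choose_spec.choose_spec a

theorem transportIso_map_inv (hq : IsoLift q) (Φ₀ : A ⥤ Y) (σ : P ≅ Φ₀ ⋙ q) (a : A) :
    q.map ((transportIso hq Φ₀ σ).inv.app a) =
      σ.inv.app a ≫ eqToHom ((transport hq Φ₀ σ).w_obj a).symm := by
  rw [← cancel_epi (q.map ((transportIso hq Φ₀ σ).hom.app a)), ← Functor.map_comp,
    Iso.hom_inv_id_app, CategoryTheory.Functor.map_id, transportIso_map, Category.assoc,
    Iso.hom_inv_id_app_assoc]
  simp

end

section reindex

variable {A : Type u₃} [Category.{v₃} A] {P : A ⥤ X} {A' : Type u₄} [Category.{v₄} A'] {P' : A' ⥤ X}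
  (hq : IsoLift q) (d : A' ⥤ A) (σ : P' ≅ d ⋙ P)

/-- The identification used to reindex a lift. -/
def liftBase (Φ : Lifts P q) : P' ≅ (d ⋙ Φ.toFunctor) ⋙ q :=
  σ ≪≫ Functor.isoWhiskerLeft d (eqToIso Φ.w.symm) ≪≫ (Functor.associator _ _ _).symm

omit hq in
theorem liftBase_hom_app (Φ : Lifts P q) (b : A') :
    (liftBase d σ Φ).hom.app b = σ.hom.app b ≫ eqToHom (Φ.w_obj (d.obj b)).symm := by
  simp [liftBase]

omit hq in
theorem liftBase_inv_app (Φ : Lifts P q) (b : A') :
    (liftBase d σ Φ).inv.app b = eqToHom (Φ.w_obj (d.obj b)) ≫ σ.inv.app b := by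
  simp [liftBase]
  exact Category.id_comp _

/-- Reindexing of lifts along `d` and `σ`. -/
noncomputable def reindex : Lifts P q ⥤ Lifts P' q where
  obj Φ := transport hq (d ⋙ Φ.toFunctor) (liftBase d σ Φ)
  map {Φ Ψ} α := lmk ((transportIso hq _ (liftBase d σ Φ)).hom ≫ Functor.whiskerLeft d α.toNatTrans ≫
      (transportIso hq _ (liftBase d σ Ψ)).inv) (fun b => by
    simp only [NatTrans.comp_app, Functor.whiskerLeft_app, Functor.map_comp, transportIso_map,
      transportIso_map_inv, liftBase_hom_app, liftBase_inv_app]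
    erw [lifts_map_app α (d.obj b)]
    simp [eqToHom_trans_assoc])
  map_id Φ := lifts_ext (by
    ext b
    change (transportIso hq _ (liftBase d σ Φ)).hom.app b ≫ 𝟙 (Φ.toFunctor.obj (d.obj b)) ≫
      (transportIso hq _ (liftBase d σ Φ)).inv.app b = 𝟙 _
    erw [Category.id_comp, Iso.hom_inv_id_app])
  map_comp α β := lifts_ext (by
    ext b
    dsimp [lmk]
    simp)

theorem reindex_map_app {Φ Ψ : Lifts P q} (α : Φ ⟶ Ψ) (b : A') :
    ((reindex hq d σ).map α).toNatTrans.app b =
      (transportIso hq _ (liftBase d σ Φ)).hom.app b ≫ α.toNatTrans.app (d.obj b) ≫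
        (transportIso hq _ (liftBase d σ Ψ)).inv.app b := rfl

theorem reindex_isEquivalence [d.IsEquivalence] : (reindex hq d σ).IsEquivalence := by
  have hf : (reindex hq d σ).Faithful := ⟨fun {Φ Ψ α β} h => by
    apply lifts_ext
    apply ((Functor.whiskeringLeft A' A Y).obj d).map_injective
    ext b
    have hb := congrArg (fun t => BasedNatTrans.toNatTrans t |>.app b) h
    simp only [reindex_map_app, cancel_epi, cancel_mono] at hb
    exact hb⟩
  have hF : (reindex hq d σ).Full := ⟨fun {Φ Ψ} γ => by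
    obtain ⟨α, hα⟩ := ((Functor.whiskeringLeft A' A Y).obj d).map_surjective
      (X := Φ.toFunctor) (Y := Ψ.toFunctor)
      ((transportIso hq _ (liftBase d σ Φ)).inv ≫ γ.toNatTrans ≫
        (transportIso hq _ (liftBase d σ Ψ)).hom)
    have hαb : ∀ b, α.app (d.obj b) = (transportIso hq _ (liftBase d σ Φ)).inv.app b ≫
        γ.toNatTrans.app b ≫ (transportIso hq _ (liftBase d σ Ψ)).hom.app b := fun b =>
      congrArg (fun t => NatTrans.app t b) hα
    have key : Functor.whiskerRight α q = eqToHom (Φ.w.trans Ψ.w.symm) := by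
      apply ((Functor.whiskeringLeft A' A X).obj d).map_injective
      ext b
      change q.map (α.app (d.obj b)) =
        (eqToHom (Φ.w.trans Ψ.w.symm) : Φ.toFunctor ⋙ q ⟶ Ψ.toFunctor ⋙ q).app (d.obj b)
      rw [hαb, eqToHom_app]
      simp only [Functor.map_comp, transportIso_map, transportIso_map_inv, liftBase_hom_app,
        liftBase_inv_app]
      erw [lifts_map_app γ b]
      simp [eqToHom_trans_assoc]
    refine ⟨lmk α (fun a => (congrArg (fun t => NatTrans.app t a) key).trans (eqToHom_app _ _)),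
      lifts_ext ?_⟩
    ext b
    rw [reindex_map_app]
    simp [lmk, hαb]
    exact Category.comp_id _⟩
  have he : (reindex hq d σ).EssSurj := ⟨fun H => by
    let Φ₀ := ((Functor.whiskeringLeft A' A Y).obj d).objPreimage H.toFunctor
    let τ : d ⋙ Φ₀ ≅ H.toFunctor := ((Functor.whiskeringLeft A' A Y).obj d).objObjPreimageIso _
    let ω₀ : d ⋙ P ≅ d ⋙ Φ₀ ⋙ q := σ.symm ≪≫ eqToIso H.w.symm ≪≫
      Functor.isoWhiskerRight τ.symm q ≪≫ Functor.associator _ _ _
    let ω : P ≅ Φ₀ ⋙ q := ((Functor.whiskeringLeft A' A X).obj d).preimageIso ω₀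
    have hω : ∀ b, ω.hom.app (d.obj b) =
        σ.inv.app b ≫ eqToHom (H.w_obj b).symm ≫ q.map (τ.inv.app b) := fun b => by
      have := congrArg (fun t => NatTrans.app t b)
        (((Functor.whiskeringLeft A' A X).obj d).map_preimage ω₀.hom)
      refine this.trans ?_
      simp [ω₀]
    let Φ := transport hq Φ₀ ω
    refine ⟨Φ, ⟨lmkIso (transportIso hq _ (liftBase d σ Φ) ≪≫
      Functor.isoWhiskerLeft d (transportIso hq Φ₀ ω) ≪≫ τ) (fun b => ?_)⟩⟩
    simp only [Iso.trans_hom, NatTrans.comp_app, Functor.isoWhiskerLeft_hom, Functor.whiskerLeft_app,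
      Functor.map_comp, transportIso_map, liftBase_hom_app, hω]
    simp [eqToHom_trans_assoc, ← Functor.map_comp]
    exact Category.comp_id _⟩
  exact { }

end reindex

end Groth.Agent.StkLib
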